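import Groth.Agent.AffQuot66.Local
import Groth.Agent.AffQuot66.Closed
import Groth.Agent.GITQuot.BaseChange
import Groth.Prelude.Def_GLinSh

/-!
Quotients of locally closed actions are geometric.
-/

set_option autoImplicit false
set_option linter.unusedSectionVars false
set_option linter.style.haveILetI false
set_option backward.isDefEq.respectTransparency false
set_option backward.isDefEq.respectTransparency.types false

universe u

open CategoryTheory CategoryTheory.Limits MonoidalCategory CartesianMonoidalCategory MonObj GrpObj AlgebraicGeometry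
open TopologicalSpace Topology
open Groth.Agent.GrpSchLib.AffineHopf (sp)

namespace Groth.Agent.SSQuot66

open AffQuot66

section Restrict

variable {S : Scheme.{u}} {G X W : Over S} [GrpObj G] {a : AlgGrp.Action G X} {b : AlgGrp.Action G W} {j : W ⟶ X}

theorem psi_whiskerRight (hb : b.act ≫ j = (G ◁ j) ≫ a.act) {T : Over S} (q : T ⟶ W) :
    GIT.psi b q ≫ (j ▷ T) = GIT.psi a (q ≫ j) := by
  apply CartesianMonoidalCategory.hom_ext
  · rw [Category.assoc, whiskerRight_fst, GIT.psi, GIT.psi, lift_fst, lift_fst_assoc, Category.assoc, hb,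
      MonoidalCategory.whiskerLeft_comp_assoc]
  · simp [GIT.psi]

theorem injective_whiskerRight [IsOpenImmersion j.left] (T : Over S) : Function.Injective (j ▷ T).left.base := by
  haveI : IsOpenImmersion (j ▷ T).left :=
    MorphismProperty.of_isPullback GITQuot.isPullback_whiskerRight (by assumption)
  exact (j ▷ T).left.isOpenEmbedding.injective

theorem range_psi_restrict [IsOpenImmersion j.left] (hb : b.act ≫ j = (G ◁ j) ≫ a.act) {T : Over S} (q : T ⟶ W) :
    Set.range (GIT.psi b q).left.base = (j ▷ T).left.base ⁻¹' Set.range (GIT.psi a (q ≫ j)).left.base := by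
  rw [← psi_whiskerRight hb q]
  refine Set.ext fun w => ⟨fun ⟨g, hg⟩ => ⟨g, ?_⟩, fun ⟨g, hg⟩ => ⟨g, injective_whiskerRight (j := j) T ?_⟩⟩
  · rw [Over.comp_left, Scheme.Hom.comp_apply, hg]
  · rwa [Over.comp_left, Scheme.Hom.comp_apply] at hg

/-- Closedness of the orbits passes to an invariant open inside. -/
theorem closedOrbitsOn_restrict [IsOpenImmersion j.left] (hb : b.act ≫ j = (G ◁ j) ≫ a.act) {Z : X.left.Opens}
    (hZ : GLinSh.ClosedOrbitsOn a Z) {O : W.left.Opens} (hO : O ≤ j.left ⁻¹ᵁ Z) : GLinSh.ClosedOrbitsOn b O := by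
  intro Ω _ _ T t q hq
  have hcl := hZ Ω T t (q ≫ j) (by
    rintro _ ⟨p, rfl⟩
    exact hO (hq ⟨p, rfl⟩))
  have hθ : ∀ w : (fst W T).left ⁻¹ᵁ O, (j ▷ T).left.base w.1 ∈ (fst X T).left ⁻¹ᵁ Z := fun w => by
    show ((j ▷ T) ≫ fst X T).left.base w.1 ∈ Z
    rw [whiskerRight_fst]
    exact hO w.2
  let θ : ((fst W T).left ⁻¹ᵁ O : (W ⊗ T).left.Opens) → ((fst X T).left ⁻¹ᵁ Z : (X ⊗ T).left.Opens) :=
    fun w => ⟨(j ▷ T).left.base w.1, hθ w⟩
  have hθc : Continuous θ := ((j ▷ T).left.continuous.comp continuous_subtype_val).subtype_mk _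
  have := hcl.preimage hθc
  rw [range_psi_restrict hb q]
  exact this

theorem isClosedAction_of_closedOrbitsOn (h : GLinSh.ClosedOrbitsOn b ⊤) : GIT.IsClosedAction b := by
  intro Ω _ _ T t q
  have hc := h Ω T t q (Set.subset_univ _)
  let θ : (W ⊗ T).left → ((fst W T).left ⁻¹ᵁ (⊤ : W.left.Opens) : (W ⊗ T).left.Opens) := fun w => ⟨w, trivial⟩
  have hθc : Continuous θ := continuous_id.subtype_mk _
  exact hc.preimage hθc

end Restrict

variable {k : Type u} [Field k] {G X Y : Over (Spec (CommRingCat.of k))} [GrpObj G] {a : AlgGrp.Action G X}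
  {φ : X ⟶ Y} {A : Type u} [CommRing A] [HopfAlgebra k A] (e : Grp.mk (sp k A) ≅ Grp.mk G) {α : A →ₗ[k] k}
  (hα : ComodLib.IsIntegral k α) (h1 : α 1 = 1)

include e hα h1 in
/-- The fibres of a quotient of a locally closed action are orbits. -/
theorem surjective_psiY_of_loc (h : IsLocPair a φ)
    (hcl : ∀ y : Y.left, ∃ O : Y.left.Opens, y ∈ O ∧ GLinSh.ClosedOrbitsOn a (φ.left ⁻¹ᵁ O)) :
    Function.Surjective (GIT.PsiY a φ h.1).base := by
  intro z
  obtain ⟨Ω, _, _, i, p, hi⟩ := exists_geomPoint (pullback φ.left φ.left) z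
  let T : Over (Spec (CommRingCat.of k)) := Over.mk ((i ≫ pullback.fst φ.left φ.left) ≫ X.hom)
  let f : T ⟶ X := Over.homMk (i ≫ pullback.fst φ.left φ.left) rfl
  let f' : T ⟶ X := Over.homMk (i ≫ pullback.snd φ.left φ.left) (by
    show (i ≫ pullback.snd φ.left φ.left) ≫ X.hom = (i ≫ pullback.fst φ.left φ.left) ≫ X.hom
    rw [Category.assoc, Category.assoc]
    congr 1
    rw [← Over.w φ, ← Category.assoc, ← pullback.condition, Category.assoc])
  have hf : f ≫ φ = f' ≫ φ := Over.OverMorphism.ext (by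
    show (i ≫ pullback.fst φ.left φ.left) ≫ φ.left = (i ≫ pullback.snd φ.left φ.left) ≫ φ.left
    rw [Category.assoc, pullback.condition, Category.assoc])
  haveI : Subsingleton T.left := inferInstanceAs (Subsingleton (PrimeSpectrum Ω))
  obtain ⟨O, hyO, hO⟩ := hcl ((f ≫ φ).left.base p)
  obtain ⟨V, hV, hyV, hVO⟩ := exists_isAffineOpen_mem_and_subset (x := (f ≫ φ).left.base p) (U := O) hyO
  obtain ⟨ha, b, hb, hp⟩ := h.2 V hV
  haveI := ha
  haveI : IsAffine (Over.mk (V.ι ≫ Y.hom) : Over (Spec (CommRingCat.of k))).left := hV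
  haveI : IsOpenImmersion (preι φ V).left := inferInstanceAs (IsOpenImmersion (φ.left ⁻¹ᵁ V).ι)
  have hclb : GIT.IsClosedAction b := isClosedAction_of_closedOrbitsOn (closedOrbitsOn_restrict hb hO
    (fun w _ => φ.left.preimage_mono hVO (show (preι φ V).left.base w ∈ φ.left ⁻¹ᵁ V from w.2)))
  have hlift : ∀ g : T ⟶ X, g ≫ φ = f ≫ φ → ∃ q : T ⟶ preObj φ V, q ≫ preι φ V = g := fun g hg => by
    have hr : Set.range g.left.base ⊆ Set.range (φ.left ⁻¹ᵁ V).ι.base := by
      rw [Scheme.Opens.range_ι]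
      rintro _ ⟨w, rfl⟩
      show (g ≫ φ).left.base w ∈ V
      rw [hg, Subsingleton.elim w p]
      exact hyV
    exact ⟨Over.homMk (IsOpenImmersion.lift _ g.left hr) (by
      show IsOpenImmersion.lift _ g.left hr ≫ (φ.left ⁻¹ᵁ V).ι ≫ X.hom = _
      rw [IsOpenImmersion.lift_fac_assoc]
      exact Over.w g), Over.OverMorphism.ext (IsOpenImmersion.lift_fac _ _ hr)⟩
  obtain ⟨q, hq⟩ := hlift f rfl
  obtain ⟨q', hq'⟩ := hlift f' hf.symm
  haveI : Mono (Over.homMk V.ι rfl : Over.mk (V.ι ≫ Y.hom) ⟶ Y) := by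
    haveI : Mono (Over.homMk V.ι rfl : Over.mk (V.ι ≫ Y.hom) ⟶ Y).left := inferInstanceAs (Mono V.ι)
    exact Over.mono_of_mono_left _
  have hqq : q ≫ resMap φ V = q' ≫ resMap φ V := by
    rw [← cancel_mono (Over.homMk V.ι rfl : Over.mk (V.ι ≫ Y.hom) ⟶ Y), Category.assoc, Category.assoc,
      ← (isPullback_res φ V).w, ← Category.assoc, ← Category.assoc, hq, hq', hf]
  obtain ⟨w, hw⟩ := hp.mem_range_psi e hα h1 hclb (T := T) (Iso.refl _) q q' hqq p
  rw [← hi]
  refine AffQuot66.mem_range_psiY (T := T) h.1 i f f' rfl rfl ⟨w, ?_⟩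
  show (GIT.psi a f').left.base w = _
  rw [← hq', ← psi_whiskerRight hb q', Over.comp_left, Scheme.Hom.comp_apply, hw]
  show (lift q (𝟙 T) ≫ (preι φ V ▷ T)).left.base p = _
  rw [lift_whiskerRight, hq]

include e hα h1 in
/-- Quotients of locally closed actions are universal geometric quotients. -/
theorem isUnivGeomQuot_of_loc (h : IsLocPair a φ)
    (hcl : ∀ y : Y.left, ∃ O : Y.left.Opens, y ∈ O ∧ GLinSh.ClosedOrbitsOn a (φ.left ⁻¹ᵁ O)) :
    GIT.IsUnivGeomQuot a φ := by
  have ho := surjective_psiY_of_loc e hα h1 h hcl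
  have hs := h.isUnivSubmersive e hα h1
  refine ⟨⟨h.1, h.surjective e hα h1, ho, hs, h.sections⟩, fun X' Y' pr φ' g _ hpb a' heq hinv => ?_⟩
  have hl := h.baseChange e hα h1 hpb heq hinv
  exact ⟨hinv, hl.surjective e hα h1, GITQuot.orbit_baseChange h.1 ho hpb a' heq hinv,
    MorphismProperty.of_isPullback (P := MorphismProperty.universally (topologically @Topology.IsQuotientMap))
      (GITQuot.isPullback_left hpb) hs, hl.sections⟩

end Groth.Agent.SSQuot66
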