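import Groth.Agent.ProjPt.Poly
import Groth.Agent.ProjPt.Sections
import Mathlib.AlgebraicGeometry.Gluing
import Mathlib.AlgebraicGeometry.Restrict

/-!
Morphisms to projective space from coordinates on an open cover.
-/

set_option autoImplicit false
set_option linter.unusedSectionVars false
set_option linter.style.haveILetI false
set_option backward.isDefEq.respectTransparency false
set_option backward.isDefEq.respectTransparency.types false

universe u

open CategoryTheory CategoryTheory.Limits AlgebraicGeometry TopologicalSpace MvPolynomial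
open HomogeneousLocalization (Away)

namespace Groth.Agent.SSQuot66

variable {k : Type u} [CommRing k] {X : Scheme.{u}} (q : X ⟶ Spec (CommRingCat.of k))

theorem appTop_appLE {U W : X.Opens} (h : U ≤ W) (g : U.toScheme ⟶ W.toScheme) (hg : g ≫ W.ι = U.ι)
    (hW : ⊤ ≤ W.ι ⁻¹ᵁ W) (hU : ⊤ ≤ U.ι ⁻¹ᵁ U) (x : Γ(X, W)) :
    g.appTop (W.ι.appLE W ⊤ hW x) = U.ι.appLE U ⊤ hU (X.presheaf.map (homOfLE h).op x) := by
  rw [← CommRingCat.comp_apply, ← CommRingCat.comp_apply, Scheme.Hom.appTop, Scheme.Hom.app_eq_appLE,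
    Scheme.Hom.appLE_comp_appLE, Scheme.Hom.map_appLE]
  simp only [hg]
  rfl

/-- The constants on an open. -/
noncomputable def c0 (U : X.Opens) : k →+* Γ(U.toScheme, ⊤) :=
  ((Scheme.ΓSpecIso (CommRingCat.of k)).inv ≫ (U.ι ≫ q).appTop).hom

theorem comp_c0 {U W : X.Opens} (g : U.toScheme ⟶ W.toScheme) (hg : g ≫ W.ι = U.ι) :
    g.appTop.hom.comp (c0 q W) = c0 q U := by
  rw [c0, c0, ← CommRingCat.hom_comp, Category.assoc, ← Scheme.Hom.comp_appTop, ← Category.assoc g, hg]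

variable {m : ℕ} {J : Type u} (U : J → X.Opens) (σ : J → Fin (m + 1)) (ρ : ∀ i, Fin (m + 1) → Γ(X, U i))

/-- The coordinates on an open as functions on it. -/
noncomputable def coordVec (i : J) (W : X.Opens) (h : W ≤ U i) (l : Fin (m + 1)) : Γ(W.toScheme, ⊤) :=
  W.ι.appLE W ⊤ (fun z _ => z.2) (X.presheaf.map (homOfLE h).op (ρ i l))

theorem comp_coordVec (i : J) {W W' : X.Opens} (h : W ≤ U i) (h' : W' ≤ W) (g : W'.toScheme ⟶ W.toScheme)
    (hg : g ≫ W.ι = W'.ι) (l : Fin (m + 1)) :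
    g.appTop (coordVec U ρ i W h l) = coordVec U ρ i W' (h'.trans h) l := by
  rw [coordVec, appTop_appLE h' g hg _ (fun z _ => z.2), coordVec]
  refine congrArg _ ?_
  rw [← CommRingCat.comp_apply, ← Functor.map_comp]
  rfl

variable (hone : ∀ i, ρ i (σ i) = 1)

include hone in
theorem coordVec_self (i : J) (W : X.Opens) (h : W ≤ U i) : coordVec U ρ i W h (σ i) = 1 := by
  rw [coordVec, hone, map_one, map_one]

/-- The chart of the map. -/
noncomputable def chartMap (i : J) : (U i).toScheme ⟶ CohB1.ProjSpace m k :=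
  ProjPt.pt (CohB1.polyGrading m k) (eval₂Hom (c0 q (U i)) (coordVec U ρ i (U i) le_rfl)) (ProjPt.X_mem (σ i)) one_pos
    (by rw [eval₂Hom_X', coordVec_self U σ ρ hone]; exact isUnit_one)

theorem comp_chart_eval (i : J) {W : X.Opens} (h : W ≤ U i) (g : W.toScheme ⟶ (U i).toScheme)
    (hg : g ≫ (U i).ι = W.ι) :
    g.appTop.hom.comp (eval₂Hom (c0 q (U i)) (coordVec U ρ i (U i) le_rfl)) =
      eval₂Hom (c0 q W) (coordVec U ρ i W h) := by
  refine MvPolynomial.ringHom_ext (fun c => ?_) fun l => ?_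
  · rw [RingHom.comp_apply, eval₂Hom_C, eval₂Hom_C, ← comp_c0 q g hg]
    rfl
  · rw [RingHom.comp_apply, eval₂Hom_X', eval₂Hom_X']
    exact comp_coordVec U ρ i le_rfl h g hg l

variable (hcov : ∀ x : X, ∃ i, x ∈ U i) (hinter : ∀ i j, U i ⊓ U j = X.basicOpen (ρ i (σ j)))
  (hcoc : ∀ i j l, X.presheaf.map (homOfLE (inf_le_left : U i ⊓ U j ≤ U i)).op (ρ i l) =
    X.presheaf.map (homOfLE (inf_le_left : U i ⊓ U j ≤ U i)).op (ρ i (σ j)) *
      X.presheaf.map (homOfLE (inf_le_right : U i ⊓ U j ≤ U j)).op (ρ j l))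

include hinter hcoc in
theorem chartMap_agree (i j : J) :
    X.homOfLE (inf_le_left : U i ⊓ U j ≤ U i) ≫ chartMap q U σ ρ hone i =
      X.homOfLE (inf_le_right : U i ⊓ U j ≤ U j) ≫ chartMap q U σ ρ hone j := by
  have ei := comp_chart_eval q U ρ i (inf_le_left : U i ⊓ U j ≤ U i) _ (X.homOfLE_ι inf_le_left)
  have ej := comp_chart_eval q U ρ j (inf_le_right : U i ⊓ U j ≤ U j) _ (X.homOfLE_ι inf_le_right)
  have hi1 : IsUnit (eval₂Hom (c0 q (U i ⊓ U j)) (coordVec U ρ i (U i ⊓ U j) inf_le_left) (MvPolynomial.X (σ i))) := by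
    rw [eval₂Hom_X', coordVec_self U σ ρ hone]; exact isUnit_one
  have hj1 : IsUnit (eval₂Hom (c0 q (U i ⊓ U j)) (coordVec U ρ j (U i ⊓ U j) inf_le_right) (MvPolynomial.X (σ j))) := by
    rw [eval₂Hom_X', coordVec_self U σ ρ hone]; exact isUnit_one
  rw [chartMap, chartMap, ProjPt.comp_pt, ProjPt.comp_pt,
    ProjPt.pt_congr _ _ _ ei _ _ _ hi1, ProjPt.pt_congr _ _ _ ej _ _ _ hj1]
  refine ProjPt.pt_scale_eval (c0 q (U i ⊓ U j)) _ _ (coordVec U ρ i (U i ⊓ U j) inf_le_left (σ j)) (fun l => ?_) _ _ _ _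
  rw [coordVec, coordVec, coordVec, ← map_mul]
  exact congrArg _ (hcoc i j l)

include hcov hinter hcoc hone in
/-- The map to projective space with given coordinates. -/
theorem exists_projMap :
    ∃ p : X ⟶ CohB1.ProjSpace m k, p ≫ CohB1.ProjSpace.toSpec m k = q ∧
      ∀ i, ∃ h : p ⁻¹ᵁ Proj.basicOpen (CohB1.polyGrading m k) (MvPolynomial.X (σ i)) = U i, ∀ l,
        p.appLE (Proj.basicOpen (CohB1.polyGrading m k) (MvPolynomial.X (σ i))) (U i) h.ge
          ((Proj.awayToSection (CohB1.polyGrading m k) (MvPolynomial.X (σ i))).hom (ProjPt.crd (σ i) l)) = ρ i l := by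
  let 𝒰 : X.OpenCover := X.openCoverOfIsOpenCover U
    (IsOpenCover.mk (top_le_iff.mp fun x _ => Opens.mem_iSup.mpr (hcov x)))
  have hglue : ∀ i j : J, pullback.fst (U i).ι (U j).ι ≫ chartMap q U σ ρ hone i =
      pullback.snd (U i).ι (U j).ι ≫ chartMap q U σ ρ hone j := by
    intro i j
    let θ : pullback (U i).ι (U j).ι ⟶ (U i ⊓ U j).toScheme :=
      IsOpenImmersion.lift (U i ⊓ U j).ι (pullback.fst (U i).ι (U j).ι ≫ (U i).ι) (by
        rw [Scheme.Opens.range_ι]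
        rintro _ ⟨z, rfl⟩
        refine ⟨((pullback.fst (U i).ι (U j).ι).base z).2, ?_⟩
        rw [pullback.condition]
        exact ((pullback.snd (U i).ι (U j).ι).base z).2)
    have h1 : θ ≫ X.homOfLE inf_le_left = pullback.fst (U i).ι (U j).ι := by
      rw [← cancel_mono (U i).ι, Category.assoc, Scheme.homOfLE_ι, IsOpenImmersion.lift_fac]
    have h2 : θ ≫ X.homOfLE inf_le_right = pullback.snd (U i).ι (U j).ι := by
      rw [← cancel_mono (U j).ι, Category.assoc, Scheme.homOfLE_ι, IsOpenImmersion.lift_fac, pullback.condition]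
    rw [← h1, ← h2, Category.assoc, Category.assoc, chartMap_agree q U σ ρ hone hinter hcoc i j]
  let p : X ⟶ CohB1.ProjSpace m k := 𝒰.glueMorphisms (fun i => chartMap q U σ ρ hone i) hglue
  have hp : ∀ i, (U i).ι ≫ p = chartMap q U σ ρ hone i := fun i =>
    Scheme.Cover.ι_glueMorphisms 𝒰 (fun i => chartMap q U σ ρ hone i) hglue i
  refine ⟨p, Scheme.Cover.hom_ext 𝒰 _ _ fun i => ?_, fun i => ?_⟩
  · show (U i).ι ≫ p ≫ _ = (U i).ι ≫ q
    rw [← Category.assoc, hp, CohB1.ProjSpace.toSpec]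
    show ProjPt.pt _ _ _ _ _ ≫ Proj.toSpecZero _ ≫ _ = _
    rw [← Category.assoc, ProjPt.pt_toSpecZero, Category.assoc, ← Spec.map_comp]
    conv_rhs => rw [ProjPt.eq_toSpecΓ ((U i).ι ≫ q)]
    congr 2
    refine CommRingCat.hom_ext (RingHom.ext fun c => ?_)
    exact eval₂Hom_C _ _ c
  have hpre : ∀ j, (U j).ι ⁻¹ᵁ (p ⁻¹ᵁ Proj.basicOpen (CohB1.polyGrading m k) (MvPolynomial.X (σ i))) =
      (U j).ι ⁻¹ᵁ U i := fun j => by
    rw [← Scheme.Hom.comp_preimage, hp, chartMap, ProjPt.pt_preimage_basicOpen _ _ _ _ _ (ProjPt.X_mem (σ i)) one_pos,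
      eval₂Hom_X']
    refine Opens.ext (Set.ext fun z => ?_)
    have e : coordVec U ρ j (U j) le_rfl (σ i) = (U j).ι.appLE (U j) ⊤ (fun z _ => z.2) (ρ j (σ i)) := by
      rw [coordVec]
      erw [CategoryTheory.Functor.map_id]
      rfl
    rw [e, Scheme.Hom.appLE, CommRingCat.comp_apply, Scheme.basicOpen_res, ← Scheme.preimage_basicOpen, ← hinter j i]
    exact ⟨fun h => h.2.2, fun h => ⟨trivial, z.2, h⟩⟩
  have h : p ⁻¹ᵁ Proj.basicOpen (CohB1.polyGrading m k) (MvPolynomial.X (σ i)) = U i := by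
    refine Opens.ext (Set.ext fun x => ?_)
    obtain ⟨j, hj⟩ := hcov x
    exact SetLike.ext_iff.mp (hpre j) ⟨x, hj⟩
  refine ⟨h, fun l => ?_⟩
  have hinj : Function.Injective ((U i).ι.appLE (U i) ⊤ (fun z _ => z.2)).hom := by
    haveI : IsIso ((U i).ι.app (U i)) := Scheme.Hom.isIso_app (U i).ι (U i) (by rw [Scheme.Opens.opensRange_ι])
    have e : (U i).ι ⁻¹ᵁ U i = ⊤ := top_le_iff.mp fun z _ => z.2
    haveI : IsIso (homOfLE e.ge : (⊤ : (U i).toScheme.Opens) ⟶ (U i).ι ⁻¹ᵁ U i).op := by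
      haveI : IsIso (homOfLE e.ge : (⊤ : (U i).toScheme.Opens) ⟶ (U i).ι ⁻¹ᵁ U i) := ⟨⟨homOfLE e.le, rfl, rfl⟩⟩
      infer_instance
    rw [Scheme.Hom.appLE]
    exact (ConcreteCategory.bijective_of_isIso _).1
  apply hinj
  have e : ⊤ ≤ chartMap q U σ ρ hone i ⁻¹ᵁ Proj.basicOpen (CohB1.polyGrading m k) (MvPolynomial.X (σ i)) := by
    rw [← hp i, Scheme.Hom.comp_preimage, h]
    exact fun z _ => z.2
  refine (ConcreteCategory.congr_hom (Scheme.Hom.appLE_comp_appLE (U i).ι p _ (U i) ⊤ h.ge (fun z _ => z.2)) _).trans ?_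
  simp only [hp]
  refine (ProjPt.pt_appLE _ _ (ProjPt.X_mem (σ i)) one_pos _ e (ProjPt.crd (σ i) l)).trans ?_
  rw [ProjPt.coordHom_crd _ _ _ (by rw [eval₂Hom_X', coordVec_self U σ ρ hone]), eval₂Hom_X', coordVec]
  erw [CategoryTheory.Functor.map_id]
  rfl

end Groth.Agent.SSQuot66
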