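import Groth.Agent.AffQuot66.Local
import Groth.Agent.AmpleVan.Pull
import Mathlib.AlgebraicGeometry.IdealSheaf.Subscheme
import Mathlib.AlgebraicGeometry.Morphisms.ClosedImmersion

/-!
A quotient as the scheme-theoretic image of an invariant map.
-/

set_option autoImplicit false
set_option linter.unusedSectionVars false
set_option linter.style.haveILetI false
set_option backward.isDefEq.respectTransparency false
set_option backward.isDefEq.respectTransparency.types false

universe u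

open CategoryTheory CategoryTheory.Limits MonoidalCategory CartesianMonoidalCategory MonObj GrpObj AlgebraicGeometry
open TopologicalSpace
open Groth.Agent.GrpSchLib.Kunneth (Fn ev)
open Groth.Agent.GrpSchLib.AffineHopf (sp)

namespace Groth.Agent.SSQuot66

open AffQuot66

variable {k : Type u} [Field k] {G X P : Over (Spec (CommRingCat.of k))} [GrpObj G] {a : AlgGrp.Action G X}

/-- An invariant factor of a map whose functions on an open are the invariant ones. -/
theorem app_factor {Y : Over (Spec (CommRingCat.of k))} (φ : X ⟶ Y) (j : Y ⟶ P) (D : P.left.Opens)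
    (hinj : Function.Injective (φ.left.app (j.left ⁻¹ᵁ D)))
    (hD : ∀ f, GIT.IsInvSection a (φ ≫ j) D f → ∃ c, (φ ≫ j).left.app D c = f) :
    Function.Injective (φ.left.app (j.left ⁻¹ᵁ D)) ∧
      ∀ f, GIT.IsInvSection a φ (j.left ⁻¹ᵁ D) f → ∃ c, φ.left.app (j.left ⁻¹ᵁ D) c = f :=
  ⟨hinj, fun f hf => (hD f hf).elim fun c hc => ⟨j.left.app D c, hc⟩⟩

variable {A : Type u} [CommRing A] [HopfAlgebra k A] (e : Grp.mk (sp k A) ≅ Grp.mk G) {α : A →ₗ[k] k}
  (hα : ComodLib.IsIntegral k α) (h1 : α 1 = 1)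

include e hα h1 in
/-- An invariant map to a scheme with an ample module whose functions on affines covering the source are the invariant
functions gives a quotient. -/
theorem exists_quot_of_map [IsSeparated P.hom] [LocallyOfFiniteType P.hom] [IsLocallyNoetherian P.left]
    [CompactSpace P.left] {M : P.left.Modules} (hM : CohB1.IsAmple M) (p : X ⟶ P) (hp : GIT.IsInvariant a p)
    {J : Type u} [Finite J] (D : J → P.left.Opens) (hD : ∀ i, IsAffineOpen (D i))
    (hU : ∀ i, IsAffineOpen (p.left ⁻¹ᵁ D i)) (hcov : ∀ x : X.left, ∃ i, p.left.base x ∈ D i)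
    (hinv : ∀ i f, GIT.IsInvSection a p (D i) f → ∃ c, p.left.app (D i) c = f) :
    ∃ (Y : Over (Spec (CommRingCat.of k))) (φ : X ⟶ Y) (j : Y ⟶ P),
      IsLocPair a φ ∧ φ ≫ j = p ∧ Topology.IsEmbedding j.left.base ∧
      IsSeparated Y.hom ∧ LocallyOfFiniteType Y.hom ∧ CompactSpace Y.left ∧ (∃ N : Y.left.Modules, CohB1.IsAmple N) ∧
      (∀ y : Y.left, ∃ i, j.left.base y ∈ D i) ∧ ∀ i, IsAffineOpen (j.left ⁻¹ᵁ D i) := by
  let W : P.left.Opens := ⨆ i, D i
  have hr : Set.range p.left.base ⊆ Set.range W.ι.base := by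
    rw [Scheme.Opens.range_ι]
    rintro _ ⟨x, rfl⟩
    exact Opens.mem_iSup.mpr (hcov x)
  let p' : X.left ⟶ W.toScheme := IsOpenImmersion.lift W.ι p.left hr
  have hp' : p' ≫ W.ι = p.left := IsOpenImmersion.lift_fac _ _ hr
  haveI : IsAffineHom p' := by
    refine isAffineHom_of_forall_exists_isAffineOpen p' fun w => ?_
    obtain ⟨i, hi⟩ := Opens.mem_iSup.mp w.2
    refine ⟨W.ι ⁻¹ᵁ D i, hi, ?_, ?_⟩
    · exact (hD i).preimage_of_isOpenImmersion _ (by rw [Scheme.Opens.opensRange_ι]; exact le_iSup D i)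
    · rw [← Scheme.Hom.comp_preimage, hp']
      exact hU i
  let Y : Over (Spec (CommRingCat.of k)) := Over.mk (p'.imageι ≫ W.ι ≫ P.hom)
  let φ : X ⟶ Y := Over.homMk p'.toImage (by
    show p'.toImage ≫ p'.imageι ≫ W.ι ≫ P.hom = X.hom
    rw [Scheme.Hom.toImage_imageι_assoc, reassoc_of% hp', Over.w])
  let j : Y ⟶ P := Over.homMk (p'.imageι ≫ W.ι) (by show (_ ≫ _) ≫ P.hom = _; rw [Category.assoc]; rfl)
  have hφj : φ ≫ j = p := Over.OverMorphism.ext (by
    show p'.toImage ≫ p'.imageι ≫ W.ι = p.left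
    rw [Scheme.Hom.toImage_imageι_assoc, hp'])
  haveI : Mono j.left := inferInstanceAs (Mono (p'.imageι ≫ W.ι))
  haveI : Mono j := Over.mono_of_mono_left j
  have hi : GIT.IsInvariant a φ := by
    rw [GIT.IsInvariant, ← cancel_mono j, Category.assoc, Category.assoc]
    rw [hφj]
    exact hp
  have hjD : ∀ i, IsAffineOpen (j.left ⁻¹ᵁ D i) := fun i => by
    show IsAffineOpen (p'.imageι ⁻¹ᵁ (W.ι ⁻¹ᵁ D i))
    exact ((hD i).preimage_of_isOpenImmersion _ (by rw [Scheme.Opens.opensRange_ι]; exact le_iSup D i)).preimage _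
  have hYcov : ∀ y : Y.left, ∃ i, j.left.base y ∈ D i := fun y => Opens.mem_iSup.mp (p'.imageι.base y).2
  haveI : IsAffineHom φ.left := isAffineHom_of_forall_exists_isAffineOpen φ.left fun y => by
    obtain ⟨i, hi⟩ := hYcov y
    exact ⟨j.left ⁻¹ᵁ D i, hi, hjD i, by rw [← Scheme.Hom.comp_preimage, ← Over.comp_left, hφj]; exact hU i⟩
  have hloc : IsLocPair a φ := by
    refine IsLocPair.of_cover e hα h1 hi fun y => ?_
    obtain ⟨i, hyi⟩ := hYcov y
    haveI : IsAffine (preObj φ (j.left ⁻¹ᵁ D i)).left := (hjD i).preimage φ.left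
    obtain ⟨b, hb, hbi⟩ := GITQuot.exists_action hi (isPullback_res φ (j.left ⁻¹ᵁ D i))
    refine ⟨j.left ⁻¹ᵁ D i, hjD i, b, hyi, hb, isPair_of_sections hb hbi ?_⟩
    obtain ⟨h₁, h₂⟩ := app_factor φ j (D i)
      (p'.toImage_app_injective ⟨W.ι ⁻¹ᵁ D i,
        (hD i).preimage_of_isOpenImmersion _ (by rw [Scheme.Opens.opensRange_ι]; exact le_iSup D i)⟩)
      (hφj.symm ▸ hinv i)
    refine ⟨h₁, Set.Subset.antisymm ?_ fun f hf => h₂ f hf⟩
    rintro _ ⟨c, rfl⟩
    have h' := GITQuot.isInvSection_appLE (φ := φ) φ hi _ _ (le_refl (φ.left ⁻¹ᵁ (j.left ⁻¹ᵁ D i))) c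
    rwa [Scheme.Hom.appLE_eq_app] at h'
  haveI : IsLocallyNoetherian W.toScheme := LocallyOfFiniteType.isLocallyNoetherian W.ι
  haveI : CompactSpace Y.left := by
    rw [← isCompact_univ_iff, show (Set.univ : Set Y.left) = ⋃ i, (j.left ⁻¹ᵁ D i : Set Y.left) from
      (Set.eq_univ_of_forall fun y => Set.mem_iUnion.mpr (hYcov y)).symm]
    exact isCompact_iUnion fun i => (hjD i).isCompact
  have hemb : Topology.IsEmbedding j.left.base := by
    show Topology.IsEmbedding (p'.imageι ≫ W.ι).base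
    exact W.ι.isOpenEmbedding.isEmbedding.comp p'.imageι.isEmbedding
  haveI : IsSeparated (p'.imageι ≫ W.ι) := inferInstance
  haveI : LocallyOfFiniteType (p'.imageι ≫ W.ι) := inferInstance
  exact ⟨Y, φ, j, hloc, hφj, hemb, inferInstanceAs (IsSeparated (p'.imageι ≫ W.ι ≫ P.hom)),
    inferInstanceAs (LocallyOfFiniteType (p'.imageι ≫ W.ι ≫ P.hom)), inferInstance,
    ⟨_, AmpleVan.isAmple_pullback_of_isEmbedding j.left hemb hM⟩, hYcov, hjD⟩

end Groth.Agent.SSQuot66
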