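import Groth.Agent.SSQuot66.Coords
import Groth.Agent.SSQuot66.ProjMap
import Groth.Agent.SSQuot66.Quot
import Groth.Agent.PnCoh.Chow.Proper

/-!
The quotient of the semi-stable locus.
-/

set_option autoImplicit false
set_option linter.unusedSectionVars false
set_option linter.style.haveILetI false
set_option backward.isDefEq.respectTransparency false
set_option backward.isDefEq.respectTransparency.types false

universe u

open CategoryTheory CategoryTheory.Limits MonoidalCategory CartesianMonoidalCategory MonObj GrpObj AlgebraicGeometry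
open TopologicalSpace
open Groth.Agent.GrpSchLib.Kunneth (Fn ev)
open Groth.Agent.GrpSchLib.AffineHopf (sp)

namespace Groth.Agent.SSQuot66

open HMAmple AffQuot66

theorem invariant_of_affine {S : Scheme.{u}} {G X : Over S} [GrpObj G] {a : AlgGrp.Action G X} {P : Over S}
    (p : X ⟶ P) {J : Type u} (U : J → X.left.Opens) (hcov : ∀ x : X.left, ∃ i, x ∈ U i)
    (h : ∀ i, ((snd G X).left ⁻¹ᵁ U i).ι ≫ (a.act ≫ p).left = ((snd G X).left ⁻¹ᵁ U i).ι ≫ (snd G X ≫ p).left) :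
    GIT.IsInvariant a p := by
  refine Over.OverMorphism.ext ?_
  let 𝒰 : (G ⊗ X).left.OpenCover := (G ⊗ X).left.openCoverOfIsOpenCover (fun i => (snd G X).left ⁻¹ᵁ U i)
    (IsOpenCover.mk (top_le_iff.mp fun z _ => by
      obtain ⟨i, hi⟩ := hcov ((snd G X).left.base z)
      exact Opens.mem_iSup.mpr ⟨i, hi⟩))
  exact Scheme.Cover.hom_ext 𝒰 _ _ h

theorem appLE_appLE_eq {A B B' C : Scheme.{u}} (f : A ⟶ B) (g : B ⟶ C) (f' : A ⟶ B') (g' : B' ⟶ C)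
    (e : f ≫ g = f' ≫ g') {U : C.Opens} {V : B.Opens} {V' : B'.Opens} {W : A.Opens} (h₁ : V ≤ g ⁻¹ᵁ U)
    (h₂ : W ≤ f ⁻¹ᵁ V) (h₁' : V' ≤ g' ⁻¹ᵁ U) (h₂' : W ≤ f' ⁻¹ᵁ V') (s : Γ(C, U)) :
    f.appLE V W h₂ (g.appLE U V h₁ s) = f'.appLE V' W h₂' (g'.appLE U V' h₁' s) := by
  rw [← CommRingCat.comp_apply, ← CommRingCat.comp_apply, Scheme.Hom.appLE_comp_appLE, Scheme.Hom.appLE_comp_appLE]
  simp only [e]

theorem appLE_appLE_of_eq {A B C : Scheme.{u}} (f : A ⟶ B) (g : B ⟶ C) (h : A ⟶ C) (e : f ≫ g = h) {U : C.Opens}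
    {V : B.Opens} {W : A.Opens} (h₁ : V ≤ g ⁻¹ᵁ U) (h₂ : W ≤ f ⁻¹ᵁ V) (h₃ : W ≤ h ⁻¹ᵁ U) (s : Γ(C, U)) :
    f.appLE V W h₂ (g.appLE U V h₁ s) = h.appLE U W h₃ s := by
  subst e
  rw [← CommRingCat.comp_apply, Scheme.Hom.appLE_comp_appLE]

theorem appLE_const {A B S : Scheme.{u}} (f : A ⟶ B) (g : B ⟶ S) (h : A ⟶ S) (e : f ≫ g = h) {D : B.Opens}
    (h₂ : ⊤ ≤ f ⁻¹ᵁ D) (s : Γ(S, ⊤)) :
    f.appLE D ⊤ h₂ (B.presheaf.map (homOfLE le_top).op (g.appTop s)) = h.appTop s := by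
  subst e
  rw [← CommRingCat.comp_apply, ← CommRingCat.comp_apply, Scheme.Hom.map_appLE]
  congr 2
  rw [Scheme.Hom.appTop, Scheme.Hom.app_eq_appLE, Scheme.Hom.appTop, Scheme.Hom.app_eq_appLE]
  exact Scheme.Hom.appLE_comp_appLE _ _ _ _ _ _ _

theorem res_app' {A B : Scheme.{u}} (g : A ⟶ B) {U W : B.Opens} (h : W ≤ U) (s : Γ(B, U)) :
    g.app W (B.presheaf.map (homOfLE h).op s) = A.presheaf.map (homOfLE (g.preimage_mono h)).op (g.app U s) :=
  ConcreteCategory.congr_hom (g.naturality (homOfLE h).op) s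

variable {k : Type u} [Field k] {G X : Over (Spec (CommRingCat.of k))} [GrpObj G] {a : AlgGrp.Action G X}
  {B : GLinSh.LinBun G a}

theorem exists_projMap_ss (C : Coords B) {U : X.left.Opens} (hU : (U : Set X.left) = B.ssLocus) :
    ∃ p : (Over.mk (U.ι ≫ X.hom) : Over (Spec (CommRingCat.of k))) ⟶ Over.mk (CohB1.ProjSpace.toSpec C.m k),
      ∀ i, ∃ h : p.left ⁻¹ᵁ Proj.basicOpen (CohB1.polyGrading C.m k) (MvPolynomial.X (C.σ i)) =
          U.ι ⁻¹ᵁ nzOpen B.atlas C.hN (C.inv (C.σ i)).1, ∀ l,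
        p.left.appLE (Proj.basicOpen (CohB1.polyGrading C.m k) (MvPolynomial.X (C.σ i)))
            (U.ι ⁻¹ᵁ nzOpen B.atlas C.hN (C.inv (C.σ i)).1) h.ge
          ((Proj.awayToSection (CohB1.polyGrading C.m k) (MvPolynomial.X (C.σ i))).hom (ProjPt.crd (C.σ i) l)) =
          U.ι.app _ (C.ρ i l) := by
  let Z := fun i => nzOpen B.atlas C.hN (C.inv (C.σ i)).1
  have hone : ∀ i, C.ρ i (C.σ i) = 1 := fun i =>
    IsQuo.unique C.hN (C.inv (C.σ i)).1 le_rfl (C.quo i (C.σ i)) (IsQuo.one C.hN (C.inv (C.σ i)).1)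
  obtain ⟨p, hp, hpi⟩ := exists_projMap (U.ι ≫ X.hom) (fun i => U.ι ⁻¹ᵁ Z i) C.σ (fun i l => U.ι.app _ (C.ρ i l))
    (fun i => by rw [hone, map_one]) (fun x => (C.cover x.1).mp (hU.le x.2))
    (fun i j => by rw [← Scheme.preimage_basicOpen, C.loc]; rfl) (fun i j l => by
      have hle₁ : Z i ⊓ Z j ≤ Z i := inf_le_left
      have hle₂ : Z i ⊓ Z j ≤ Z j := inf_le_right
      have e : X.left.presheaf.map (homOfLE hle₁).op (C.ρ i l) =
          X.left.presheaf.map (homOfLE hle₁).op (C.ρ i (C.σ j)) * X.left.presheaf.map (homOfLE hle₂).op (C.ρ j l) := by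
        refine IsQuo.unique C.hN (C.inv (C.σ i)).1 hle₁ ((C.quo i l).res hle₁) ?_
        rw [_root_.mul_comm]
        exact ((C.quo i (C.σ j)).res hle₁).trans ((C.quo j l).res hle₂)
      have e' := congrArg (U.ι.app _) e
      rw [map_mul, res_app', res_app', res_app'] at e'
      exact e')
  exact ⟨Over.homMk p hp, hpi⟩

variable [IsAffineHom G.hom] {U : X.left.Opens} {aU : AlgGrp.Action G (Over.mk (U.ι ≫ X.hom))}
  {jU : Over.mk (U.ι ≫ X.hom) ⟶ X}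

theorem exists_ssQuot {A : Type u} [CommRing A] [HopfAlgebra k A] (e : Grp.mk (sp k A) ≅ Grp.mk G)
    {α : A →ₗ[k] k} (hα : ComodLib.IsIntegral k α) (h1 : α 1 = 1) (C : Coords B)
    (hU : (U : Set X.left) = B.ssLocus) (hjU : jU.left = U.ι) (haU : aU.act ≫ jU = (G ◁ jU) ≫ a.act) :
    ∃ (Y : Over (Spec (CommRingCat.of k))) (φ : Over.mk (U.ι ≫ X.hom) ⟶ Y)
      (j : Y ⟶ Over.mk (CohB1.ProjSpace.toSpec C.m k)) (T : C.J → Y.left.Opens),
      IsLocPair aU φ ∧ Topology.IsEmbedding j.left.base ∧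
      IsSeparated Y.hom ∧ LocallyOfFiniteType Y.hom ∧ CompactSpace Y.left ∧ (∃ M : Y.left.Modules, CohB1.IsAmple M) ∧
      ∀ i, IsAffineOpen (T i) ∧ T i = j.left ⁻¹ᵁ Proj.basicOpen (CohB1.polyGrading C.m k) (MvPolynomial.X (C.σ i)) ∧
        φ.left ⁻¹ᵁ T i = U.ι ⁻¹ᵁ nzOpen B.atlas C.hN (C.inv (C.σ i)).1 ∧ ∀ y : Y.left, ∃ i, y ∈ T i := by
  classical
  obtain ⟨p, hp⟩ := exists_projMap_ss C hU
  haveI := C.fin
  let X' : Over (Spec (CommRingCat.of k)) := Over.mk (U.ι ≫ X.hom)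
  let Z := fun i => nzOpen B.atlas C.hN (C.inv (C.σ i)).1
  let D := fun i => Proj.basicOpen (CohB1.polyGrading C.m k)
    (MvPolynomial.X (C.σ i) : MvPolynomial (Fin (C.m + 1)) k)
  haveI : IsOpenImmersion jU.left := by rw [hjU]; infer_instance
  have hsub : ∀ i, Z i ≤ U := fun i z hz => hU.ge ((C.cover z).mpr ⟨i, hz⟩)
  have hinvZ : ∀ i, a.act.left ⁻¹ᵁ Z i = (snd G X).left ⁻¹ᵁ Z i := fun i =>
    preimage_nonvanishing (C.inv (C.σ i)).2 (U := Z i) rfl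
  have hw : ∀ z : (G ⊗ X').left, jU.left.base (aU.act.left.base z) = a.act.left.base ((G ◁ jU).left.base z) ∧
      jU.left.base ((snd G X').left.base z) = (snd G X).left.base ((G ◁ jU).left.base z) := fun z =>
    ⟨congrArg (fun m : G ⊗ X' ⟶ X => m.left.base z) haU,
      congrArg (fun m : G ⊗ X' ⟶ X => m.left.base z) (whiskerLeft_snd G jU).symm⟩
  have hinv' : ∀ i, aU.act.left ⁻¹ᵁ (U.ι ⁻¹ᵁ Z i) = (snd G X').left ⁻¹ᵁ (U.ι ⁻¹ᵁ Z i) := fun i => by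
    refine Opens.ext (Set.ext fun z => ?_)
    show U.ι.base (aU.act.left.base z) ∈ Z i ↔ U.ι.base ((snd G X').left.base z) ∈ Z i
    obtain ⟨e₁, e₂⟩ := hw z
    rw [hjU] at e₁ e₂
    exact (Iff.of_eq (congrArg (· ∈ Z i) e₁)).trans
      ((SetLike.ext_iff.mp (hinvZ i) _).trans (Iff.of_eq (congrArg (· ∈ Z i) e₂)).symm)
  have hcovX : ∀ x : X'.left, ∃ i, x ∈ U.ι ⁻¹ᵁ Z i := fun x => (C.cover x.1).mp (hU.le x.2)
  have hpD : ∀ i, p.left ⁻¹ᵁ D i = U.ι ⁻¹ᵁ Z i := fun i => (hp i).1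
  have hpi : GIT.IsInvariant aU p := invariant_of_affine p _ hcovX fun i => by
    let O := (snd G X').left ⁻¹ᵁ (U.ι ⁻¹ᵁ Z i)
    have h₂ : O ≤ (snd G X').left ⁻¹ᵁ (p.left ⁻¹ᵁ D i) := by rw [hpD]
    have h₁ : O ≤ aU.act.left ⁻¹ᵁ (p.left ⁻¹ᵁ D i) := by rw [hpD, hinv']
    refine ext_to_chart ?_ (C.σ i) (fun z _ => h₁ z.2) (fun z _ => h₂ z.2) fun l => ?_
    · show (O.ι ≫ (aU.act ≫ p).left) ≫ _ = (O.ι ≫ (snd G X' ≫ p).left) ≫ _
      rw [Category.assoc, Category.assoc]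
      congr 1
      exact (Over.w (aU.act ≫ p)).trans (Over.w (snd G X' ≫ p)).symm
    · obtain ⟨h, hl⟩ := hp i
      have key : ∀ (m : G ⊗ X' ⟶ X') (m' : G ⊗ X ⟶ X) (hm : O ≤ m.left ⁻¹ᵁ (p.left ⁻¹ᵁ D i))
          (hm' : O ≤ (G ◁ jU).left ⁻¹ᵁ (m'.left ⁻¹ᵁ Z i)), m ≫ jU = (G ◁ jU) ≫ m' → ∀ hzz,
          (O.ι ≫ (m ≫ p).left).appLE (D i) ⊤ hzz
              ((Proj.awayToSection (CohB1.polyGrading C.m k) (MvPolynomial.X (C.σ i))).hom (ProjPt.crd (C.σ i) l)) =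
            (O.ι ≫ (G ◁ jU).left).appLE (m'.left ⁻¹ᵁ Z i) ⊤ (fun z _ => hm' z.2) (m'.left.app (Z i) (C.ρ i l)) := by
        intro m m' hm hm' hmm hzz
        have hmU : O ≤ m.left ⁻¹ᵁ (U.ι ⁻¹ᵁ Z i) := hpD i ▸ hm
        have e : U.ι.app (Z i) (C.ρ i l) = p.left.appLE (D i) _ h.ge
            ((Proj.awayToSection (CohB1.polyGrading C.m k) (MvPolynomial.X (C.σ i))).hom (ProjPt.crd (C.σ i) l)) :=
          (hl l).symm
        have e₁ : (O.ι ≫ (m ≫ p).left).appLE (D i) ⊤ hzz =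
            p.left.appLE (D i) (U.ι ⁻¹ᵁ Z i) h.ge ≫ (O.ι ≫ m.left).appLE _ ⊤ (fun z _ => hmU z.2) := by
          rw [Scheme.Hom.appLE_comp_appLE]
          rfl
        rw [e₁, CommRingCat.comp_apply, ← e, Scheme.Hom.app_eq_appLE, Scheme.Hom.app_eq_appLE]
        have e' : (O.ι ≫ m.left) ≫ U.ι = (O.ι ≫ (G ◁ jU).left) ≫ m'.left := by
          rw [Category.assoc, Category.assoc]
          exact congrArg (fun t => O.ι ≫ t)
            ((congrArg (fun t => m.left ≫ t) hjU.symm).trans (congrArg (fun t => t.left) hmm))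
        exact appLE_appLE_eq _ U.ι _ m'.left e' _ _ _ _ _
      have hs : O ≤ (G ◁ jU).left ⁻¹ᵁ ((snd G X).left ⁻¹ᵁ Z i) := fun z hz => by
        show (snd G X).left.base ((G ◁ jU).left.base z) ∈ Z i
        rw [← (hw z).2, hjU]
        exact hz
      have ha : O ≤ (G ◁ jU).left ⁻¹ᵁ (a.act.left ⁻¹ᵁ Z i) := (hinvZ i).symm ▸ hs
      have e := IsQuo.invariant C.hN (C.inv (C.σ i)).1 (C.inv (C.σ i)).2 (C.inv l).2 le_rfl (C.quo i l)
        ((snd G X).left ⁻¹ᵁ Z i) (hinvZ i).ge le_rfl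
      have e' := congrArg ((O.ι ≫ (G ◁ jU).left).appLE ((snd G X).left ⁻¹ᵁ Z i) ⊤ (fun z _ => hs z.2)) e
      refine (key aU.act a.act h₁ ha haU _).trans (Eq.trans ?_ (key (snd G X') (snd G X) h₂ hs
        (whiskerLeft_snd G jU).symm _).symm)
      rw [Scheme.Hom.app_eq_appLE, Scheme.Hom.app_eq_appLE]
      exact (appLE_appLE_eq _ a.act.left _ a.act.left rfl le_rfl _ (hinvZ i).ge _ _).trans e'
  let P : Over (Spec (CommRingCat.of k)) := Over.mk (CohB1.ProjSpace.toSpec C.m k)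
  haveI hP : IsProper P.hom := PnCoh.Chow.isProper_toSpec C.m k
  haveI : IsLocallyNoetherian P.left := LocallyOfFiniteType.isLocallyNoetherian P.hom
  haveI : CompactSpace P.left := QuasiCompact.compactSpace_of_compactSpace P.hom
  have hM : CohB1.IsAmple (Twist.twist (CohB1.polyGrading C.m k) 1) := by
    refine AmpleX.isAmple_twist_one (CohB1.polyGrading C.m k) (Finset.image (fun l : Fin (C.m + 1) =>
      (MvPolynomial.X l : MvPolynomial (Fin (C.m + 1)) k)) Finset.univ) (fun f hf => ?_) (top_le_iff.1 fun y _ => ?_)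
    · obtain ⟨l, -, rfl⟩ := Finset.mem_image.1 hf
      exact ProjPt.X_mem l
    · obtain ⟨l, hl⟩ := ProjUPX.cov_X y
      exact Opens.mem_iSup.2 ⟨⟨_, Finset.mem_image.2 ⟨l, Finset.mem_univ _, rfl⟩⟩, hl⟩
  have hgen : ∀ i f, GIT.IsInvSection aU p (D i) f → ∃ c, p.left.app (D i) c = f := by
    intro i f hf
    let ZO : Over (Spec (CommRingCat.of k)) := Over.mk ((Z i).ι ≫ X.hom)
    let jZ : ZO ⟶ X := Over.homMk (Z i).ι rfl
    let ι' : ZO ⟶ X' := Over.homMk (X.left.homOfLE (hsub i)) (by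
      show X.left.homOfLE (hsub i) ≫ U.ι ≫ X.hom = _
      rw [Scheme.homOfLE_ι_assoc]
      rfl)
    have hι : ι' ≫ jU = jZ := Over.OverMorphism.ext (by
      show X.left.homOfLE (hsub i) ≫ jU.left = (Z i).ι
      rw [hjU, Scheme.homOfLE_ι])
    haveI : Mono jU := by
      haveI : Mono jU.left := inferInstance
      exact Over.mono_of_mono_left jU
    have hact : (C.act i).act ≫ ι' = (G ◁ ι') ≫ aU.act := by
      rw [← cancel_mono jU, Category.assoc, Category.assoc, hι, haU, ← MonoidalCategory.whiskerLeft_comp_assoc, hι]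
      exact C.act_eq i
    have hιD : ⊤ ≤ ι'.left ⁻¹ᵁ (p.left ⁻¹ᵁ D i) := fun z _ => (hpD i).ge (show U.ι.base _ ∈ Z i by
      show (X.left.homOfLE (hsub i) ≫ U.ι).base z ∈ Z i
      rw [Scheme.homOfLE_ι]
      exact z.2)
    haveI : IsOpenImmersion ι'.left := inferInstanceAs (IsOpenImmersion (X.left.homOfLE (hsub i)))
    have hpr : p.left ⁻¹ᵁ D i ≤ ι'.left.opensRange := fun x hx =>
      ⟨⟨x.1, (hpD i).le hx⟩, U.ι.isOpenEmbedding.injective (by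
        show (X.left.homOfLE (hsub i) ≫ U.ι).base _ = _
        rw [Scheme.homOfLE_ι]
        rfl)⟩
    have hf' : GLinSh.IsInvFn (C.act i) (ι'.left.appLE (p.left ⁻¹ᵁ D i) ⊤ hιD f) := by
      obtain ⟨e₁, e₂⟩ := whisker_appLE (a := aU) hact hιD
        (O := aU.act.left ⁻¹ᵁ (p.left ⁻¹ᵁ D i) ⊓ (snd G X').left ⁻¹ᵁ (p.left ⁻¹ᵁ D i))
        (fun z _ => ⟨by
          show ((G ◁ ι') ≫ aU.act).left.base z ∈ p.left ⁻¹ᵁ D i
          rw [← hact]
          exact hιD (Set.mem_univ _), by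
          show ((G ◁ ι') ≫ snd G X').left.base z ∈ p.left ⁻¹ᵁ D i
          rw [whiskerLeft_snd]
          exact hιD (Set.mem_univ _)⟩) inf_le_left inf_le_right f
      show ev _ _ = ev _ _
      rw [← e₁, ← e₂]
      exact congrArg _ hf
    have hθ : ⊤ ≤ (ι' ≫ p).left ⁻¹ᵁ D i := hιD
    let R : Subalgebra k (Fn ZO) :=
      { ((ι' ≫ p).left.appLE (D i) ⊤ hθ).hom.range.toSubsemiring with
        algebraMap_mem' := fun c => ⟨P.left.presheaf.map (homOfLE le_top).op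
          (P.hom.appTop ((Scheme.ΓSpecIso (CommRingCat.of k)).inv c)), by
          exact appLE_const (ι' ≫ p).left P.hom ZO.hom (Over.w (ι' ≫ p)) hθ _⟩ }
    have hle : Algebra.adjoin k (Set.range fun l => chartFn (Z i) (C.ρ i l)) ≤ R := by
      refine Algebra.adjoin_le ?_
      rintro _ ⟨l, rfl⟩
      refine ⟨(Proj.awayToSection (CohB1.polyGrading C.m k) (MvPolynomial.X (C.σ i))).hom (ProjPt.crd (C.σ i) l), ?_⟩
      obtain ⟨h, hl⟩ := hp i
      have hιZ : ⊤ ≤ ι'.left ⁻¹ᵁ (U.ι ⁻¹ᵁ Z i) := hpD i ▸ hιD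
      have e₁ : (ι' ≫ p).left.appLE (D i) ⊤ hθ =
          p.left.appLE (D i) (U.ι ⁻¹ᵁ Z i) h.ge ≫ ι'.left.appLE _ ⊤ hιZ := by
        rw [Scheme.Hom.appLE_comp_appLE]
        rfl
      show ((ι' ≫ p).left.appLE (D i) ⊤ hθ).hom _ = _
      rw [e₁, CommRingCat.comp_apply, hl l, Scheme.Hom.app_eq_appLE]
      have e' : ι'.left ≫ U.ι = (Z i).ι := X.left.homOfLE_ι (hsub i)
      exact appLE_appLE_of_eq ι'.left U.ι (Z i).ι e' _ _ _ _
    obtain ⟨c, hc⟩ := hle (C.gen i _ hf')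
    refine ⟨c, (bijective_appLE ι'.left _ hpr hιD).1 ?_⟩
    rw [← hc, ← CommRingCat.comp_apply, Scheme.Hom.app_eq_appLE, Scheme.Hom.appLE_comp_appLE]
    rfl
  obtain ⟨Y, φ, j, hloc, hφj, hemb, hsep, hft, hc, hamp, hYcov, haff⟩ := exists_quot_of_map e hα h1 (P := P) hM p hpi D
    (fun i => Proj.isAffineOpen_basicOpen _ _ (ProjPt.X_mem (C.σ i)) one_pos)
    (fun i => by rw [hpD]; exact (C.affine i).preimage_of_isOpenImmersion _ (by
      rw [Scheme.Opens.opensRange_ι]; exact hsub i))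
    (fun x => (hcovX x).imp fun i hi => (hpD i).ge hi) hgen
  exact ⟨Y, φ, j, fun i => j.left ⁻¹ᵁ D i, hloc, hemb, hsep, hft, hc, hamp,
      fun i => ⟨haff i, rfl, by rw [← Scheme.Hom.comp_preimage, ← Over.comp_left, hφj]; exact hpD i,
        fun y => hYcov y⟩⟩

end Groth.Agent.SSQuot66
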