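import Groth.Agent.SSQuot66.Main
import Groth.Agent.SSQuot66.Geometric

/-!
The stable locus inside the quotient of the semi-stable locus.
-/

set_option autoImplicit false
set_option linter.unusedSectionVars false
set_option linter.style.haveILetI false
set_option backward.isDefEq.respectTransparency false
set_option backward.isDefEq.respectTransparency.types false

universe u

open CategoryTheory CategoryTheory.Limits MonoidalCategory CartesianMonoidalCategory MonObj GrpObj AlgebraicGeometry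
open TopologicalSpace
open Groth.Agent.GrpSchLib.Kunneth (Fn ev)
open Groth.Agent.GrpSchLib.AffineHopf (sp)

namespace Groth.Agent.SSQuot66

open HMAmple AffQuot66

variable {k : Type u} [Field k] {G X : Over (Spec (CommRingCat.of k))} [GrpObj G] {a : AlgGrp.Action G X}
  {B : GLinSh.LinBun G a} {U : X.left.Opens} {aU : AlgGrp.Action G (Over.mk (U.ι ≫ X.hom))}
  {jU : Over.mk (U.ι ≫ X.hom) ⟶ X}

/-- The locus of an invariant section is the preimage of an open of the quotient. -/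
theorem exists_open_preimage (hjU : jU.left = U.ι) (haU : aU.act ≫ jU = (G ◁ jU) ≫ a.act)
    {Y : Over (Spec (CommRingCat.of k))} {φ : Over.mk (U.ι ≫ X.hom) ⟶ Y} (hloc : IsLocPair aU φ) (C : Coords B)
    (hU : (U : Set X.left) = B.ssLocus) (T : C.J → Y.left.Opens)
    (hT : ∀ i, φ.left ⁻¹ᵁ T i = U.ι ⁻¹ᵁ nzOpen B.atlas C.hN (C.inv (C.σ i)).1)
    {n : ℕ} (hn : 1 ≤ n) {f : Fn B.V} (hf : B.IsInvSection n f) {Z : X.left.Opens}
    (hZ : (Z : Set X.left) = GLinSh.nonvanishing B.π f) :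
    ∃ O : Y.left.Opens, φ.left ⁻¹ᵁ O = U.ι ⁻¹ᵁ Z := by
  have hn' : 1 ≤ C.N * n := Nat.mul_pos C.hN hn
  have hf' : B.IsInvSection (C.N * n) (f ^ C.N) := Nat.mul_comm n C.N ▸ AffAct66.IsInvSection_pow B hf C.N
  have hZ' : nzOpen B.atlas hn' hf'.1 = Z :=
    Opens.ext ((AffAct66.nonvanishing_pow B C.hN f).trans hZ.symm)
  have key : ∀ i, ∃ O : Y.left.Opens, O ≤ T i ∧ φ.left ⁻¹ᵁ O = φ.left ⁻¹ᵁ T i ⊓ U.ι ⁻¹ᵁ Z := by
    intro i
    have hg := AffAct66.IsInvSection_pow B (C.inv (C.σ i)) n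
    obtain ⟨b, hb, hbo⟩ := exists_quo (B := B) hn' hg.1 hf'.1
    rw [hZ'] at hbo
    let Zi := nzOpen B.atlas hn' hg.1
    have hZi : Zi = nzOpen B.atlas C.hN (C.inv (C.σ i)).1 := Opens.ext (AffAct66.nonvanishing_pow B hn _)
    let P := φ.left ⁻¹ᵁ T i
    have hP : P = U.ι ⁻¹ᵁ Zi := by rw [hZi]; exact hT i
    let s := U.ι.appLE Zi P hP.le b
    have hinv : GIT.IsInvSection aU φ (T i) s := by
      let W := aU.act.left ⁻¹ᵁ P ⊓ (snd G (Over.mk (U.ι ≫ X.hom))).left ⁻¹ᵁ P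
      have hx : ∀ w, w ∈ P → U.ι.base w ∈ Zi := fun w hw => hP.le hw
      have hW : W ≤ (G ◁ jU).left ⁻¹ᵁ (a.act.left ⁻¹ᵁ Zi ⊓ (snd G X).left ⁻¹ᵁ Zi) := fun z hz => ⟨by
        show ((G ◁ jU) ≫ a.act).left.base z ∈ Zi
        rw [← haU, Over.comp_left, Scheme.Hom.comp_apply, hjU]
        exact hx _ hz.1, by
        show ((G ◁ jU) ≫ snd G X).left.base z ∈ Zi
        rw [whiskerLeft_snd, Over.comp_left, Scheme.Hom.comp_apply, hjU]
        exact hx _ hz.2⟩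
      have e := congrArg ((G ◁ jU).left.appLE _ W hW) (IsQuo.invariant hn' hg.1 hg.2 hf'.2 le_rfl hb
        (a.act.left ⁻¹ᵁ Zi ⊓ (snd G X).left ⁻¹ᵁ Zi) inf_le_left inf_le_right)
      show aU.act.left.appLE _ _ inf_le_left s = (snd G (Over.mk (U.ι ≫ X.hom))).left.appLE _ _ inf_le_right s
      refine (appLE_appLE_eq _ U.ι (G ◁ jU).left a.act.left ?_ hP.le inf_le_left inf_le_left hW b).trans
        (e.trans (appLE_appLE_eq _ U.ι (G ◁ jU).left (snd G X).left ?_ hP.le inf_le_right inf_le_right hW b).symm)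
      · exact (congrArg (fun t => aU.act.left ≫ t) hjU.symm).trans (congrArg (fun t => t.left) haU)
      · exact (congrArg (fun t => (snd G (Over.mk (U.ι ≫ X.hom))).left ≫ t) hjU.symm).trans
          (congrArg (fun t => t.left) (whiskerLeft_snd G jU).symm)
    obtain ⟨c, hc⟩ := (hloc.sections (T i)).2.ge hinv
    refine ⟨Y.left.basicOpen c, Y.left.basicOpen_le c, ?_⟩
    rw [Scheme.preimage_basicOpen, hc]
    show (Over.mk (U.ι ≫ X.hom)).left.basicOpen s = P ⊓ U.ι ⁻¹ᵁ Z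
    show U.toScheme.basicOpen (U.ι.appLE Zi P hP.le b) = P ⊓ U.ι ⁻¹ᵁ Z
    rw [Scheme.Hom.appLE, CommRingCat.comp_apply, Scheme.basicOpen_res, ← Scheme.preimage_basicOpen, hbo]
    refine Opens.ext (Set.ext fun w => ⟨fun h => ⟨h.1, h.2.2⟩, fun h => ⟨h.1, hP.le h.1, h.2⟩⟩)
  choose O hOT hO using key
  refine ⟨⨆ i, O i, Opens.ext (Set.ext fun w => ⟨fun hw => ?_, fun hw => ?_⟩)⟩
  · obtain ⟨i, hi⟩ := Opens.mem_iSup.mp (hw : φ.left.base w ∈ ⨆ i, O i)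
    exact ((hO i).le (show w ∈ φ.left ⁻¹ᵁ O i from hi)).2
  · obtain ⟨i, hi⟩ := (C.cover w.1).mp (hU.le w.2)
    exact Opens.mem_iSup.mpr ⟨i, (hO i).ge ⟨(hT i).ge hi, hw⟩⟩

variable [CharZero k]

/-- The quotient of the semi-stable locus contains a geometric quotient of the stable locus. -/
theorem exists_sLocus_quot (hG : Red.IsReductive G) [LocallyOfFiniteType X.hom] [QuasiCompact X.hom]
    (hU : (U : Set X.left) = B.ssLocus) (hjU : jU.left = U.ι) (haU : aU.act ≫ jU = (G ◁ jU) ≫ a.act)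
    (Y : Over (Spec (CommRingCat.of k))) (φ : Over.mk (U.ι ≫ X.hom) ⟶ Y) (hφ : GIT.IsCatQuot aU φ)
    (Us : X.left.Opens) (hUs : (Us : Set X.left) = B.sLocus) (hle : Us ≤ U)
    (aS : AlgGrp.Action G (Over.mk (Us.ι ≫ X.hom))) (jS : Over.mk (Us.ι ≫ X.hom) ⟶ X) (hjS : jS.left = Us.ι)
    (haS : aS.act ≫ jS = (G ◁ jS) ≫ a.act) :
    ∃ (Yt : Y.left.Opens) (φs : Over.mk (Us.ι ≫ X.hom) ⟶ Over.mk (Yt.ι ≫ Y.hom)),
      φs.left ≫ Yt.ι = X.left.homOfLE hle ≫ φ.left ∧ φ.left ⁻¹ᵁ Yt = U.ι ⁻¹ᵁ Us ∧ GIT.IsUnivGeomQuot aS φs := by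
  obtain ⟨A, _, _, α, hα, h1, -, ⟨e⟩⟩ := AffQuot66.exists_integral_model hG
  have := AffQuot66.isAffineHom_of_model e
  obtain ⟨C⟩ := exists_coords B e hα h1 hU
  obtain ⟨Y₀, φ₀, j₀, T₀, hloc₀, -, -, -, -, -, hT₀⟩ := exists_ssQuot e hα h1 C hU hjU haU
  have hc := (hloc₀.isUnivCatQuot e hα h1).1
  obtain ⟨χ, hχ, -⟩ := hc.2 Y φ hφ.1
  obtain ⟨ψ, hψ, -⟩ := hφ.2 _ _ hc.1
  have e₂ : ψ ≫ χ = 𝟙 _ := (hφ.2 _ _ hφ.1).unique (by rw [← Category.assoc, hψ, hχ]) (Category.comp_id _)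
  have e₁ : χ ≫ ψ = 𝟙 _ := (hc.2 _ _ hc.1).unique (by rw [← Category.assoc, hχ, hψ]) (Category.comp_id _)
  haveI : IsIso ψ := ⟨χ, e₂, e₁⟩
  have hloc : IsLocPair aU φ := hloc₀.baseChange e hα h1 (pr := 𝟙 _) (g := ψ)
    (IsPullback.of_horiz_isIso ⟨by rw [Category.id_comp, hψ]⟩) (by simp) hφ.1
  have hT : ∀ i, φ.left ⁻¹ᵁ (ψ.left ⁻¹ᵁ T₀ i) = U.ι ⁻¹ᵁ nzOpen B.atlas C.hN (C.inv (C.σ i)).1 := fun i => by
    rw [← Scheme.Hom.comp_preimage, ← Over.comp_left, hψ]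
    exact (hT₀ i).2.2.1
  have key : ∀ x : {x : X.left // x ∈ Us}, ∃ (O : Y.left.Opens) (Z : X.left.Opens),
      φ.left ⁻¹ᵁ O = U.ι ⁻¹ᵁ Z ∧ x.1 ∈ Z ∧ Z ≤ Us ∧ GLinSh.ClosedOrbitsOn a Z := fun x => by
    obtain ⟨n, f, hn, hf, hxf, Z, hZ, hZa, hcl⟩ := (hUs.le x.2 : B.IsStablePt x.1)
    obtain ⟨O, hO⟩ := exists_open_preimage hjU haU hloc C hU _ hT hn hf hZ
    exact ⟨O, Z, hO, hZ.ge hxf, fun z hz => hUs.ge ⟨n, f, hn, hf, hZ.le hz, Z, hZ, hZa, hcl⟩, hcl⟩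
  choose O Z hOZ hxZ hZs hcl using key
  let Yt : Y.left.Opens := ⨆ x, O x
  have hpre : φ.left ⁻¹ᵁ Yt = U.ι ⁻¹ᵁ Us := by
    refine Opens.ext (Set.ext fun w => ⟨fun hw => ?_, fun hw => ?_⟩)
    · obtain ⟨x, hx⟩ := Opens.mem_iSup.mp (hw : φ.left.base w ∈ Yt)
      exact hZs x ((hOZ x).le (show w ∈ φ.left ⁻¹ᵁ O x from hx))
    · exact Opens.mem_iSup.mpr ⟨⟨w.1, hw⟩, (hOZ ⟨w.1, hw⟩).ge (hxZ ⟨w.1, hw⟩)⟩
  have hr : Set.range (X.left.homOfLE hle ≫ φ.left).base ⊆ Set.range Yt.ι.base := by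
    rw [Scheme.Opens.range_ι]
    rintro _ ⟨w, rfl⟩
    refine hpre.ge (show U.ι.base _ ∈ Us from ?_)
    show (X.left.homOfLE hle ≫ U.ι).base w ∈ Us
    rw [Scheme.homOfLE_ι]
    exact w.2
  let k₀ : (Over.mk (Us.ι ≫ X.hom) : Over (Spec (CommRingCat.of k))) ⟶ Over.mk (U.ι ≫ X.hom) :=
    Over.homMk (X.left.homOfLE hle) (by
      show X.left.homOfLE hle ≫ U.ι ≫ X.hom = _
      rw [Scheme.homOfLE_ι_assoc]
      rfl)
  let φs : (Over.mk (Us.ι ≫ X.hom) : Over (Spec (CommRingCat.of k))) ⟶ Over.mk (Yt.ι ≫ Y.hom) :=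
    Over.homMk (IsOpenImmersion.lift Yt.ι (X.left.homOfLE hle ≫ φ.left) hr) (by
      show IsOpenImmersion.lift Yt.ι _ hr ≫ Yt.ι ≫ Y.hom = _
      rw [IsOpenImmersion.lift_fac_assoc, Category.assoc]
      exact (congrArg (fun t => X.left.homOfLE hle ≫ t) (Over.w φ)).trans (Over.w k₀))
  have hfac : φs.left ≫ Yt.ι = X.left.homOfLE hle ≫ φ.left := IsOpenImmersion.lift_fac _ _ hr
  have hpb : IsPullback k₀ φs φ (Over.homMk Yt.ι rfl : Over.mk (Yt.ι ≫ Y.hom) ⟶ Y) := by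
    refine IsPullback.of_map (Over.forget _) (Over.OverMorphism.ext hfac.symm) ?_
    refine (IsOpenImmersion.isPullback φs.left (X.left.homOfLE hle) Yt.ι φ.left hfac.symm ?_).flip
    rw [Scheme.Opens.opensRange_ι, hpre]
    exact (Scheme.opensRange_homOfLE hle).symm
  have hk : k₀ ≫ jU = jS := Over.OverMorphism.ext (by
    show X.left.homOfLE hle ≫ jU.left = jS.left
    rw [hjS, hjU, Scheme.homOfLE_ι])
  haveI : IsOpenImmersion jU.left := by rw [hjU]; infer_instance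
  haveI : IsOpenImmersion jS.left := by rw [hjS]; infer_instance
  haveI : Mono jU := Over.mono_of_mono_left jU
  have heq : aS.act ≫ k₀ = (G ◁ k₀) ≫ aU.act := by
    rw [← cancel_mono jU, Category.assoc, Category.assoc, hk, haU, ← MonoidalCategory.whiskerLeft_comp_assoc, hk]
    exact haS
  have hinv : GIT.IsInvariant aS φs := by
    haveI : Mono (Over.homMk Yt.ι rfl : Over.mk (Yt.ι ≫ Y.hom) ⟶ Y) := by
      haveI : Mono (Over.homMk Yt.ι rfl : Over.mk (Yt.ι ≫ Y.hom) ⟶ Y).left := inferInstanceAs (Mono Yt.ι)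
      exact Over.mono_of_mono_left _
    rw [GIT.IsInvariant, ← cancel_mono (Over.homMk Yt.ι rfl : Over.mk (Yt.ι ≫ Y.hom) ⟶ Y), Category.assoc,
      Category.assoc, ← hpb.w, ← Category.assoc, heq, Category.assoc, hφ.1, ← Category.assoc, whiskerLeft_snd,
      Category.assoc]
  refine ⟨Yt, φs, hfac, hpre, isUnivGeomQuot_of_loc e hα h1 (hloc.baseChange e hα h1 hpb heq hinv) fun y => ?_⟩
  obtain ⟨x, hx⟩ := Opens.mem_iSup.mp (y.2 : y.1 ∈ ⨆ x, O x)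
  refine ⟨Yt.ι ⁻¹ᵁ O x, hx, closedOrbitsOn_restrict haS (hcl x) fun w hw => ?_⟩
  show jS.left.base w ∈ Z x
  rw [hjS, ← X.left.homOfLE_ι hle]
  refine (hOZ x).le (?_ : φ.left.base _ ∈ O x)
  have hw' : (φs.left ≫ Yt.ι).base w ∈ O x := hw
  rwa [hfac] at hw'

end Groth.Agent.SSQuot66
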