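import Groth.Agent.SSQuot66.Stable

/-!
An invariant section with affine locus around finitely many semi-stable points.
-/

set_option autoImplicit false
set_option linter.unusedSectionVars false
set_option linter.style.haveILetI false
set_option backward.isDefEq.respectTransparency false
set_option backward.isDefEq.respectTransparency.types false

universe u

open CategoryTheory CategoryTheory.Limits MonoidalCategory CartesianMonoidalCategory MonObj GrpObj AlgebraicGeometry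
open TopologicalSpace
open Groth.Agent.GrpSchLib.Kunneth (Fn ev)
open Groth.Agent.GrpSchLib.AffineHopf (sp)

namespace Groth.Agent.SSQuot66

open HMAmple AffQuot66

variable {k : Type u} [Field k] {G X : Over (Spec (CommRingCat.of k))} [GrpObj G] {a : AlgGrp.Action G X}

section Sections

variable {B : GLinSh.LinBun G a}

theorem IsQuo.add {f f' g : Fn B.V} {T : X.left.Opens} {b b' : Γ(X.left, T)} (h : IsQuo B f g T b)
    (h' : IsQuo B f' g T b') : IsQuo B (f + f') g T (b + b') := by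
  simp only [IsQuo, GLinSh.resTop, map_add, add_mul] at *
  rw [h, h']

theorem IsQuo.zero {g : Fn B.V} {T : X.left.Opens} : IsQuo B 0 g T 0 := by
  simp only [IsQuo, GLinSh.resTop, map_zero, MulZeroClass.zero_mul]

theorem IsQuo.sum {J : Type*} (s : Finset J) {f : J → Fn B.V} {g : Fn B.V} {T : X.left.Opens}
    {b : J → Γ(X.left, T)} (h : ∀ i ∈ s, IsQuo B (f i) g T (b i)) :
    IsQuo B (∑ i ∈ s, f i) g T (∑ i ∈ s, b i) := by
  classical
  induction s using Finset.induction with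
  | empty => rw [Finset.sum_empty, Finset.sum_empty]; exact IsQuo.zero
  | insert i s hi ih =>
    rw [Finset.sum_insert hi, Finset.sum_insert hi]
    exact (h i (Finset.mem_insert_self i s)).add (ih fun j hj => h j (Finset.mem_insert_of_mem hj))

theorem isInvSection_sum {n : ℕ} {J : Type*} (s : Finset J) {f : J → Fn B.V} (h : ∀ i ∈ s, B.IsInvSection n (f i)) :
    B.IsInvSection n (∑ i ∈ s, f i) := by
  refine ⟨fun U y hy => ?_, ?_⟩
  · choose c hc using fun i : s => (h i i.2).1 U y hy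
    refine ⟨∑ i, c i, ?_⟩
    rw [GLinSh.resTop, map_sum, ← Finset.sum_coe_sort s, map_sum, Finset.sum_mul]
    exact Finset.sum_congr rfl fun i _ => hc i
  · show ev B.lift.act _ = ev (snd G B.V) _
    rw [map_sum, map_sum]
    exact Finset.sum_congr rfl fun i hi => (h i hi).2

end Sections

/-- Orbits of an invariant open with closed action are closed in it. -/
theorem closedOrbitsOn_of_isClosedAction {S : Scheme.{u}} {G X W : Over S} [GrpObj G] {a : AlgGrp.Action G X}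
    {b : AlgGrp.Action G W} {j : W ⟶ X} [IsOpenImmersion j.left] (hb : b.act ≫ j = (G ◁ j) ≫ a.act) {Z : X.left.Opens}
    (hj : Set.range j.left.base = (Z : Set X.left)) (h : GIT.IsClosedAction b) : GLinSh.ClosedOrbitsOn a Z := by
  intro Ω _ _ T t f hf
  let q : T ⟶ W := Over.homMk (IsOpenImmersion.lift j.left f.left (hj.symm ▸ hf)) (by
    rw [← Over.w j, IsOpenImmersion.lift_fac_assoc]
    exact Over.w f)
  have hq : q ≫ j = f := Over.OverMorphism.ext (IsOpenImmersion.lift_fac _ _ _)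
  rw [← hq]
  haveI : IsOpenImmersion (j ▷ T).left :=
    MorphismProperty.of_isPullback GITQuot.isPullback_whiskerRight (by assumption)
  have ho := ((j ▷ T).left.isOpenEmbedding.isOpenMap _ (h Ω T t q).isOpen_compl)
  refine ⟨?_⟩
  convert ho.preimage (continuous_subtype_val (p := fun p => p ∈ (fst X T).left ⁻¹ᵁ Z)) using 1
  refine Set.ext fun p => ⟨fun hp => ?_, ?_⟩
  · obtain ⟨w₀, hw₀⟩ : (fst X T).left.base p.1 ∈ Set.range j.left.base := hj.ge p.2
    obtain ⟨w, hw, -⟩ := Scheme.exists_preimage_of_isPullback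
      (GITQuot.isPullback_whiskerRight (φ := j) (Z := T)).flip p.1 w₀ hw₀.symm
    refine ⟨w, fun hmem => hp ?_, hw⟩
    rw [range_psi_restrict hb q] at hmem
    rwa [Set.mem_preimage, ← hw]
  · rintro ⟨w, hw, hwp⟩ hmem
    refine hw ?_
    rw [range_psi_restrict hb q]
    rwa [Set.mem_preimage, hwp]

/-- Closedness of the orbits in an open gives closedness in a smaller one. -/
theorem closedOrbitsOn_mono {S : Scheme.{u}} {G X : Over S} [GrpObj G] {a : AlgGrp.Action G X} {Z Z' : X.left.Opens}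
    (hle : Z' ≤ Z) (h : GLinSh.ClosedOrbitsOn a Z) : GLinSh.ClosedOrbitsOn a Z' := by
  intro Ω _ _ T t f hf
  have hcl := h Ω T t f (hf.trans hle)
  let θ : ((fst X T).left ⁻¹ᵁ Z' : (X ⊗ T).left.Opens) → ((fst X T).left ⁻¹ᵁ Z : (X ⊗ T).left.Opens) :=
    fun w => ⟨w.1, hle w.2⟩
  have hθc : Continuous θ := continuous_subtype_val.subtype_mk _
  exact hcl.preimage hθc

variable {B : GLinSh.LinBun G a} {U : X.left.Opens} {aU : AlgGrp.Action G (Over.mk (U.ι ≫ X.hom))}
  {jU : Over.mk (U.ι ≫ X.hom) ⟶ X} [LocallyOfFiniteType X.hom] [QuasiCompact X.hom] [IsAffineHom G.hom]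
  {Y : Over (Spec (CommRingCat.of k))} {φ : Over.mk (U.ι ≫ X.hom) ⟶ Y}

/-- The basic opens of the chart of the quotient are loci of invariant sections. -/
theorem exists_section_basicOpen (hjU : jU.left = U.ι) (haU : aU.act ≫ jU = (G ◁ jU) ≫ a.act)
    (hloc : IsLocPair aU φ) (C : Coords B) (hU : (U : Set X.left) = B.ssLocus) (i : C.J) {T : Y.left.Opens}
    (hT : φ.left ⁻¹ᵁ T = U.ι ⁻¹ᵁ nzOpen B.atlas C.hN (C.inv (C.σ i)).1) (c : Γ(Y.left, T)) :
    ∃ (N : ℕ) (g : Fn B.V) (Z : X.left.Opens), 1 ≤ N ∧ B.IsInvSection N g ∧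
      (Z : Set X.left) = GLinSh.nonvanishing B.π g ∧ IsAffineOpen Z ∧ Z ≤ U ∧
      φ.left ⁻¹ᵁ Y.left.basicOpen c = U.ι ⁻¹ᵁ Z := by
  let Zi := nzOpen B.atlas C.hN (C.inv (C.σ i)).1
  let ZO : Over (Spec (CommRingCat.of k)) := Over.mk (Zi.ι ≫ X.hom)
  let jZ : ZO ⟶ X := Over.homMk Zi.ι rfl
  have hsub : Zi ≤ U := fun z hz => hU.ge ((C.cover z).mpr ⟨i, hz⟩)
  let ι' : ZO ⟶ Over.mk (U.ι ≫ X.hom) := Over.homMk (X.left.homOfLE hsub) (by
    show X.left.homOfLE hsub ≫ U.ι ≫ X.hom = _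
    rw [Scheme.homOfLE_ι_assoc]
    rfl)
  have hι : ι' ≫ jU = jZ := Over.OverMorphism.ext (by
    show X.left.homOfLE hsub ≫ jU.left = Zi.ι
    rw [hjU, Scheme.homOfLE_ι])
  haveI : IsOpenImmersion jU.left := by rw [hjU]; infer_instance
  haveI : Mono jU := Over.mono_of_mono_left jU
  haveI : IsOpenImmersion jZ.left := inferInstanceAs (IsOpenImmersion Zi.ι)
  have hact : (C.act i).act ≫ ι' = (G ◁ ι') ≫ aU.act := by
    rw [← cancel_mono jU, Category.assoc, Category.assoc, hι, haU, ← MonoidalCategory.whiskerLeft_comp_assoc, hι]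
    exact C.act_eq i
  have hinvZ := preimage_nonvanishing (B := B) (C.inv (C.σ i)).2 (U := Zi) rfl
  have hιT : ⊤ ≤ (ι' ≫ φ).left ⁻¹ᵁ T := fun z _ => hT.ge (show U.ι.base _ ∈ Zi by
    show (X.left.homOfLE hsub ≫ U.ι).base z ∈ Zi
    rw [Scheme.homOfLE_ι]
    exact z.2)
  let s : Fn ZO := (ι' ≫ φ).left.appLE T ⊤ hιT c
  have hs : GLinSh.IsInvFn (C.act i) s := by
    have e : (C.act i).act ≫ ι' ≫ φ = snd G ZO ≫ ι' ≫ φ := by
      rw [← Category.assoc, hact, Category.assoc, hloc.1, ← Category.assoc, whiskerLeft_snd, Category.assoc]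
    show (C.act i).act.left.appTop s = (snd G ZO).left.appTop s
    simp only [s, Scheme.Hom.appTop, Scheme.Hom.app_eq_appLE]
    exact appLE_appLE_eq _ (ι' ≫ φ).left _ (ι' ≫ φ).left (congrArg (fun t => t.left) e) _ _ _ _ c
  have htop : ⊤ ≤ jZ.left ⁻¹ᵁ Zi := fun z _ => z.2
  obtain ⟨h, hh⟩ := (bijective_appLE jZ.left Zi (by
    show Zi ≤ Zi.ι.opensRange
    rw [Scheme.Opens.opensRange_ι]) htop).2 s
  obtain ⟨N, g, hN, hg, hnv⟩ := AffAct66.exists_invSection B C.hN (C.inv (C.σ i)) (Z := Zi) rfl h hinvZ.ge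
    ((invariant_iff (C.act_eq i) htop (by
      show (Zi : Set X.left) ⊆ Set.range Zi.ι.base
      rw [Scheme.Opens.range_ι]) hinvZ.ge h).mpr (hh ▸ hs))
  refine ⟨N, g, X.left.basicOpen h, hN, hg, hnv.symm, (C.affine i).basicOpen h, (X.left.basicOpen_le h).trans hsub,
    Opens.ext (Set.ext fun w => ?_)⟩
  have key : ∀ z : ZO.left, z ∈ ZO.left.basicOpen s ↔ (ι' ≫ φ).left.base z ∈ Y.left.basicOpen c := fun z => by
    simp only [s]
    rw [Scheme.Hom.appLE, CommRingCat.comp_apply, Scheme.basicOpen_res, ← Scheme.preimage_basicOpen]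
    exact ⟨fun hz => hz.2, fun hz => ⟨trivial, hz⟩⟩
  have key' : ∀ z : ZO.left, z ∈ ZO.left.basicOpen s ↔ Zi.ι.base z ∈ X.left.basicOpen h := fun z => by
    rw [← hh, Scheme.Hom.appLE, CommRingCat.comp_apply, Scheme.basicOpen_res, ← Scheme.preimage_basicOpen]
    exact ⟨fun hz => hz.2, fun hz => ⟨trivial, hz⟩⟩
  constructor
  · intro hw
    let z : ZO.left := ⟨w.1, hT.le (Y.left.basicOpen_le c hw)⟩
    have e : (X.left.homOfLE hsub).base z = w := U.ι.isOpenEmbedding.injective (by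
      show (X.left.homOfLE hsub ≫ U.ι).base z = _
      rw [Scheme.homOfLE_ι]
      rfl)
    refine (key' z).mp ((key z).mpr ?_)
    show φ.left.base ((X.left.homOfLE hsub).base z) ∈ Y.left.basicOpen c
    rw [e]
    exact hw
  · intro hw
    let z : ZO.left := ⟨w.1, X.left.basicOpen_le h hw⟩
    have e : (X.left.homOfLE hsub).base z = w := U.ι.isOpenEmbedding.injective (by
      show (X.left.homOfLE hsub ≫ U.ι).base z = _
      rw [Scheme.homOfLE_ι]
      rfl)
    have h3 := (key z).mp ((key' z).mpr hw)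
    show φ.left.base w ∈ Y.left.basicOpen c
    rw [← e]
    exact h3

/-- An invariant section with affine locus, in the preimage of an open, around finitely many points. -/
theorem exists_section_finite (hjU : jU.left = U.ι) (haU : aU.act ≫ jU = (G ◁ jU) ≫ a.act) (hloc : IsLocPair aU φ)
    (C : Coords B) (hU : (U : Set X.left) = B.ssLocus) (T : C.J → Y.left.Opens) (hTa : ∀ i, IsAffineOpen (T i))
    (hT : ∀ i, φ.left ⁻¹ᵁ T i = U.ι ⁻¹ᵁ nzOpen B.atlas C.hN (C.inv (C.σ i)).1)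
    (hTcov : ∀ y : Y.left, ∃ i, y ∈ T i) (O : Y.left.Opens) {S : Set U.toScheme} (hS : S.Finite)
    (hSO : ∀ x ∈ S, φ.left.base x ∈ O) :
    ∃ (n : ℕ) (f : Fn B.V) (Z : X.left.Opens), 1 ≤ n ∧ B.IsInvSection n f ∧
      (Z : Set X.left) = GLinSh.nonvanishing B.π f ∧ IsAffineOpen Z ∧ (∀ x ∈ S, U.ι.base x ∈ Z) ∧
      ∀ z ∈ Z, ∃ x : U.toScheme, U.ι.base x = z ∧ φ.left.base x ∈ O := by
  classical
  let P : Set Y.left := φ.left.base '' S
  let P₀ : Set Y.left := {z ∈ P | ∀ w ∈ P, z ⤳ w → w ⤳ z}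
  have hP₀ : P₀.Finite := (hS.image _).subset fun z hz => hz.1
  have hmax : ∀ z ∈ P, ∃ z₀ ∈ P₀, z ⤳ z₀ := fun z hz => by
    obtain ⟨z₀, hle, hmin⟩ := ((hS.image _).subset (fun w (hw : w ∈ {w ∈ P | z ⤳ w}) => hw.1)).exists_le_minimal
      (show z ∈ {w ∈ P | z ⤳ w} from ⟨hz, specializes_rfl⟩)
    exact ⟨z₀, ⟨hmin.1.1, fun w hw hzw => hmin.2 ⟨hw, hmin.1.2.trans hzw⟩ hzw⟩, hmin.1.2⟩
  let W : Y.left → Y.left.Opens := fun z => O ⊓ ⟨(⋃ w ∈ ({w ∈ P₀ | ¬ z ⤳ w ∨ ¬ w ⤳ z} : Set Y.left),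
      closure ({w} : Set Y.left))ᶜ,
    ((hP₀.subset fun _ hw => hw.1).isClosed_biUnion fun w _ => isClosed_closure).isOpen_compl⟩
  have hW : ∀ z : P₀, (z : Y.left) ∈ W z := fun z => by
    obtain ⟨x, hx, hxz⟩ := z.2.1
    refine ⟨hxz ▸ hSO x hx, fun hmem => ?_⟩
    obtain ⟨w, hw, hzw⟩ := Set.mem_iUnion₂.1 hmem
    have h1 : w ⤳ (z : Y.left) := specializes_iff_mem_closure.2 hzw
    exact hw.2.elim (fun h => h (hw.1.2 z z.2.1 h1)) (fun h => h h1)
  have hloc' : ∀ z : P₀, ∃ (N : ℕ) (g : Fn B.V) (Z : X.left.Opens) (V : Y.left.Opens), 1 ≤ N ∧ B.IsInvSection N g ∧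
      (Z : Set X.left) = GLinSh.nonvanishing B.π g ∧ IsAffineOpen Z ∧ Z ≤ U ∧
      φ.left ⁻¹ᵁ V = U.ι ⁻¹ᵁ Z ∧ (z : Y.left) ∈ V ∧ V ≤ W z := fun z => by
    obtain ⟨i, hi⟩ := hTcov z
    obtain ⟨c, hcW, hzc⟩ := (hTa i).exists_basicOpen_le ⟨(z : Y.left), hW z⟩ hi
    obtain ⟨N, g, Z, hN, hg, hZ, hZa, hZU, hpre⟩ := exists_section_basicOpen hjU haU hloc C hU i (hT i) c
    exact ⟨N, g, Z, _, hN, hg, hZ, hZa, hZU, hpre, hzc, hcW⟩
  choose N g Z V hN hg hZ hZa hZU hpre hzV hVW using hloc'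
  haveI := hP₀.fintype
  let D := ∏ z, N z
  have hD : 1 ≤ D := Finset.prod_pos (f := N) fun z _ => hN z
  obtain ⟨t, ht, htZ⟩ : ∃ t : P₀ → Fn B.V, (∀ z, B.IsInvSection D (t z)) ∧
      ∀ z, (Z z : Set X.left) = GLinSh.nonvanishing B.π (t z) := by
    have hd : ∀ z : P₀, N z * (D / N z) = D := fun z => Nat.mul_div_cancel' (Finset.dvd_prod_of_mem _ (Finset.mem_univ z))
    have hd0 : ∀ z, 0 < D / N z := fun z => Nat.pos_of_ne_zero fun h => by
      have := hd z
      rw [h, Nat.mul_zero] at this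
      omega
    exact ⟨fun z => g z ^ (D / N z), fun z => by
        have := AffAct66.IsInvSection_pow B (hg z) (D / N z)
        rwa [hd z] at this,
      fun z => by rw [AffAct66.nonvanishing_pow B (hd0 z)]; exact hZ z⟩
  let f := ∑ z, t z
  have hf : B.IsInvSection D f := isInvSection_sum _ fun z _ => ht z
  let Zf := nzOpen B.atlas hD hf.1
  let ZD := fun z => nzOpen B.atlas hD (ht z).1
  have hZD : ∀ z, ZD z = Z z := fun z => Opens.ext (htZ z).symm
  choose r hr hro using fun z w => exists_quo (B := B) hD (ht z).1 (ht w).1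
  choose r' hr' hr'o using fun z => exists_quo (B := B) hD (ht z).1 hf.1
  have hmem : ∀ (z : P₀) (x : U.toScheme), φ.left.base x = z → U.ι.base x ∈ Zf := by
    intro z x hxz
    have hxZ : ∀ w, U.ι.base x ∈ ZD w ↔ (z : Y.left) ∈ V w := fun w => by
      rw [hZD, ← hxz]
      exact ⟨fun h => (hpre w).ge h, fun h => (hpre w).le h⟩
    have hx : U.ι.base x ∈ ZD z := (hxZ z).mpr (hzV z)
    have hsum : r' z = ∑ w, r z w := IsQuo.unique hD (ht z).1 le_rfl (hr' z) (IsQuo.sum _ fun w _ => hr z w)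
    have hone : ∀ w : P₀, (w : Y.left) = z → w = z := fun w h => Subtype.ext h
    have hother : ∀ w : P₀, U.ι.base x ∈ X.left.basicOpen (r z w) →
        (z : Y.left) ⤳ (w : Y.left) ∧ (w : Y.left) ⤳ (z : Y.left) := fun w hw => by
      rw [hro z w] at hw
      have h1 := (hVW w ((hxZ w).mp hw.2)).2
      by_contra hn
      refine h1 (Set.mem_iUnion₂.2 ⟨z, ⟨z.2, ?_⟩, subset_closure rfl⟩)
      rcases not_and_or.mp hn with h | h
      · exact Or.inr h
      · exact Or.inl h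
    have heq : ∀ w : P₀, U.ι.base x ∈ X.left.basicOpen (r z w) → w = z := fun w hw =>
      Subtype.ext ((hother w hw).2.antisymm (hother w hw).1).eq
    have hxr : U.ι.base x ∈ X.left.basicOpen (r' z) := by
      rw [hsum, X.left.mem_basicOpen _ _ hx, map_sum, ← Finset.add_sum_erase _ _ (Finset.mem_univ z)]
      have h1 : IsUnit (X.left.presheaf.germ _ _ hx (r z z)) := by
        rw [IsQuo.unique hD (ht z).1 le_rfl (hr z z) (IsQuo.one hD (ht z).1), map_one]
        exact isUnit_one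
      have h2 : (∑ w ∈ Finset.univ.erase z, X.left.presheaf.germ _ _ hx (r z w)) ∈
          IsLocalRing.maximalIdeal (X.left.presheaf.stalk (U.ι.base x)) :=
        Ideal.sum_mem _ fun w hw hu =>
          Finset.ne_of_mem_erase hw (heq w ((X.left.mem_basicOpen _ _ hx).mpr hu))
      by_contra hc
      exact (show _ ∈ IsLocalRing.maximalIdeal _ from hc) |> fun hc' => by
        have h3 := Ideal.sub_mem _ hc' h2
        rw [add_sub_cancel_right] at h3
        exact h3 h1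
    exact ((hr'o z).le hxr).2
  have hnn : (Zf : Set X.left) = GLinSh.nonvanishing B.π f := rfl
  obtain ⟨Of, hOf⟩ := exists_open_preimage hjU haU hloc C hU T hT hD hf hnn
  choose c hc hco using fun z => exists_quo (B := B) hD hf.1 (ht z).1
  have hone : ∑ z, c z = 1 :=
    IsQuo.unique hD hf.1 le_rfl (IsQuo.sum _ fun z _ => hc z) (IsQuo.one hD hf.1)
  have hcov : ∀ x ∈ Zf, ∃ z, x ∈ ZD z := fun x hx => by
    have h1 : IsUnit (X.left.presheaf.germ Zf x hx (∑ z, c z)) := by rw [hone, map_one]; exact isUnit_one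
    rw [map_sum] at h1
    obtain ⟨z, -, hz⟩ : ∃ z ∈ Finset.univ, IsUnit (X.left.presheaf.germ Zf x hx (c z)) := by
      by_contra! hno
      exact (show _ ∈ IsLocalRing.maximalIdeal (X.left.presheaf.stalk x) from
        Ideal.sum_mem _ fun w hw => hno w hw) h1
    exact ⟨z, ((hco z).le ((X.left.mem_basicOpen _ x hx).mpr hz)).2⟩
  refine ⟨D, f, Zf, hD, hf, hnn, ?_, fun x hx => ?_, fun z hz => ?_⟩
  · refine isAffineOpen_of_isAffineOpen_basicOpen Zf (Set.range c)
      ((Ideal.eq_top_iff_one _).2 (hone ▸ Ideal.sum_mem _ fun w _ => Ideal.subset_span ⟨w, rfl⟩)) ?_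
    rintro _ ⟨z, rfl⟩
    rw [hco z, inf_comm, ← hr'o z]
    exact ((hZD z).symm ▸ hZa z : IsAffineOpen (ZD z)).basicOpen (r' z)
  · obtain ⟨z₀, hz₀, hsp⟩ := hmax (φ.left.base x) ⟨x, hx, rfl⟩
    obtain ⟨x₀, -, hx₀⟩ := hz₀.1
    have h1 : φ.left.base x₀ ∈ Of := hOf.ge (hmem ⟨z₀, hz₀⟩ x₀ hx₀)
    rw [hx₀] at h1
    exact hOf.le (show x ∈ φ.left ⁻¹ᵁ Of from hsp.mem_open Of.isOpen h1)
  · obtain ⟨w, hw⟩ := hcov z hz
    have hw' : z ∈ Z w := hZD w ▸ hw
    refine ⟨⟨z, hZU w hw'⟩, rfl, ?_⟩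
    exact (hVW w ((hpre w).ge hw')).1

end Groth.Agent.SSQuot66
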