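import Groth.Agent.SSQuot66.Data
import Mathlib.AlgebraicGeometry.Noetherian

/-!
Finitely many invariant sections of one degree giving coordinates on the semi-stable locus.
-/

set_option autoImplicit false
set_option linter.unusedSectionVars false
set_option linter.style.haveILetI false
set_option backward.isDefEq.respectTransparency false
set_option backward.isDefEq.respectTransparency.types false

universe u

open CategoryTheory CategoryTheory.Limits MonoidalCategory CartesianMonoidalCategory MonObj GrpObj AlgebraicGeometry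
open TopologicalSpace
open Groth.Agent.GrpSchLib.Kunneth (Fn ev)
open Groth.Agent.GrpSchLib.AffineHopf (sp)

namespace Groth.Agent.SSQuot66

open HMAmple

variable {k : Type u} [Field k] {G X : Over (Spec (CommRingCat.of k))} [GrpObj G] {a : AlgGrp.Action G X}
  (B : GLinSh.LinBun G a)

/-- The data of coordinates on the semi-stable locus. -/
structure Coords where
  (N m : ℕ)
  hN : 1 ≤ N
  J : Type u
  fin : Finite J
  sec : Fin (m + 1) → Fn B.V
  inv : ∀ l, B.IsInvSection N (sec l)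
  σ : J → Fin (m + 1)
  affine : ∀ i, IsAffineOpen (nzOpen B.atlas hN (inv (σ i)).1)
  ρ : ∀ i, Fin (m + 1) → Γ(X.left, nzOpen B.atlas hN (inv (σ i)).1)
  quo : ∀ i l, IsQuo B (sec l) (sec (σ i)) _ (ρ i l)
  loc : ∀ i l, X.left.basicOpen (ρ i l) = nzOpen B.atlas hN (inv (σ i)).1 ⊓ nzOpen B.atlas hN (inv l).1
  act : ∀ i, AlgGrp.Action G (Over.mk ((nzOpen B.atlas hN (inv (σ i)).1).ι ≫ X.hom))
  act_eq : ∀ i, (act i).act ≫ (Over.homMk (nzOpen B.atlas hN (inv (σ i)).1).ι rfl :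
      Over.mk ((nzOpen B.atlas hN (inv (σ i)).1).ι ≫ X.hom) ⟶ X) =
    (G ◁ (Over.homMk (nzOpen B.atlas hN (inv (σ i)).1).ι rfl :
      Over.mk ((nzOpen B.atlas hN (inv (σ i)).1).ι ≫ X.hom) ⟶ X)) ≫ a.act
  gen : ∀ i, ∀ f, GLinSh.IsInvFn (act i) f →
    f ∈ Algebra.adjoin k (Set.range fun l => chartFn (nzOpen B.atlas hN (inv (σ i)).1) (ρ i l))
  cover : ∀ x, B.IsSemistablePt x ↔ ∃ i, x ∈ nzOpen B.atlas hN (inv (σ i)).1

variable {A : Type u} [CommRing A] [HopfAlgebra k A] (e : Grp.mk (sp k A) ≅ Grp.mk G) {α : A →ₗ[k] k}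
  (hα : ComodLib.IsIntegral k α) (h1 : α 1 = 1) [LocallyOfFiniteType X.hom] [QuasiCompact X.hom]

include e hα h1 in
theorem exists_coords [IsAffineHom G.hom] {U : X.left.Opens} (hU : (U : Set X.left) = B.ssLocus) :
    Nonempty (Coords B) := by
  classical
  haveI : IsLocallyNoetherian X.left := LocallyOfFiniteType.isLocallyNoetherian X.hom
  haveI : CompactSpace X.left := QuasiCompact.compactSpace_of_compactSpace X.hom
  haveI : IsNoetherian X.left := { }
  choose n f hn hf hxf Z hZ hZa using fun x : {x : X.left // x ∈ U} => (hU.le x.2 : B.IsSemistablePt x.1)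
  obtain ⟨t, ht⟩ := (NoetherianSpace.isCompact (U : Set X.left)).elim_finite_subcover
    (fun x : {x : X.left // x ∈ U} => (Z x : Set X.left)) (fun x => (Z x).isOpen) fun x hx =>
      Set.mem_iUnion.mpr ⟨⟨x, hx⟩, by rw [hZ]; exact hxf ⟨x, hx⟩⟩
  let N₀ := ∏ x ∈ t, n x
  have hN₀ : 0 < N₀ := Finset.prod_pos fun x _ => hn x
  let d : {x // x ∈ t} → ℕ := fun x => N₀ / n x.1
  have hd : ∀ x : {x // x ∈ t}, n x.1 * d x = N₀ := fun x => Nat.mul_div_cancel' (Finset.dvd_prod_of_mem _ x.2)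
  have hd0 : ∀ x, 0 < d x := fun x => Nat.pos_of_ne_zero fun h => by
    have := hd x
    rw [h, Nat.mul_zero] at this
    omega
  obtain ⟨g, hg, hgZ⟩ : ∃ g : {x // x ∈ t} → Fn B.V, (∀ x, B.IsInvSection N₀ (g x)) ∧
      ∀ x : {x // x ∈ t}, (Z x.1 : Set X.left) = GLinSh.nonvanishing B.π (g x) :=
    ⟨fun x => f x.1 ^ d x, fun x => hd x ▸ AffAct66.IsInvSection_pow B (hf x.1) (d x),
      fun x => by rw [hZ, AffAct66.nonvanishing_pow B (hd0 x)]⟩
  choose b L I hI s h hb hs hL hgen using fun x => exists_chart_sections e hα h1 hN₀ (hg x) (hgZ x) (hZa x.1)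
  haveI := hI
  let L₀ := 1 + ∑ x, L x
  have hLle : ∀ x, L x ≤ L₀ := fun x => (Finset.single_le_sum (fun _ _ => Nat.zero_le _) (Finset.mem_univ x)).trans
    (Nat.le_add_left _ _)
  let K := Option ({x // x ∈ t} ⊕ Σ x, I x)
  haveI : Fintype K := Fintype.ofFinite K
  have hK : 0 < Fintype.card K := Fintype.card_pos_iff.mpr ⟨none⟩
  let eK : Fin (Fintype.card K - 1 + 1) ≃ K := (finCongr (by omega)).trans (Fintype.equivFin K).symm
  let sK : K → Fn B.V
    | none => 0
    | some (Sum.inl x) => g x ^ L₀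
    | some (Sum.inr ⟨x, i⟩) => s x i * g x ^ (L₀ - L x)
  have hsK : ∀ κ, B.IsInvSection (N₀ * L₀) (sK κ) := by
    rintro (_ | x | ⟨x, i⟩)
    · exact ⟨fun U y _ => ⟨0, by rw [GLinSh.resTop, map_zero, map_zero, MulZeroClass.zero_mul]⟩,
        (map_zero (ev B.lift.act)).trans (map_zero (ev (snd G B.V))).symm⟩
    · exact AffAct66.IsInvSection_pow B (hg x) L₀
    · refine ⟨hasWeight_of_isHomL B fun R _ _ _ r v v' hr => ?_, ?_⟩
      · rw [show N₀ * L₀ = N₀ * L x + N₀ * (L₀ - L x) by rw [← Nat.mul_add, Nat.add_sub_cancel' (hLle x)], map_mul,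
          map_mul, isHomL_of_hasWeight B (hs x i).1.1 R r v v' hr, map_pow, map_pow,
          isHomL_of_hasWeight B (hg x).1 R r v v' hr, pow_add, mul_pow, ← pow_mul]
        ring
      · show ev B.lift.act _ = ev (snd G B.V) _
        rw [map_mul, map_mul, map_pow, map_pow, show ev B.lift.act (s x i) = ev (snd G B.V) (s x i) from (hs x i).1.2,
          show ev B.lift.act (g x) = ev (snd G B.V) (g x) from (hg x).2]
  have hN : 1 ≤ N₀ * L₀ := Nat.mul_pos hN₀ (by omega)
  have hσ : ∀ x, sK (eK (eK.symm (some (Sum.inl x)))) = g x ^ L₀ := fun x => by rw [Equiv.apply_symm_apply]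
  have hnz : ∀ x, nzOpen B.atlas hN (hsK (eK (eK.symm (some (Sum.inl x))))).1 = Z x.1 := fun x => by
    refine Opens.ext ?_
    show GLinSh.nonvanishing B.π (sK (eK (eK.symm (some (Sum.inl x))))) = _
    rw [hσ, AffAct66.nonvanishing_pow B (by omega), hgZ]
  choose ρ hρ hρo using fun x l => exists_quo (B := B) hN (hsK (eK (eK.symm (some (Sum.inl x))))).1 (hsK (eK l)).1
  choose b' hb' using fun x => AffAct66.exists_restrict a _
    (preimage_nonvanishing (B := B) (hsK (eK (eK.symm (some (Sum.inl x))))).2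
      (U := nzOpen B.atlas hN (hsK (eK (eK.symm (some (Sum.inl x))))).1) rfl)
  refine ⟨{
    N := N₀ * L₀, m := Fintype.card K - 1, hN := hN, J := {x // x ∈ t}, fin := inferInstance
    sec := fun l => sK (eK l), inv := fun l => hsK _
    σ := fun x => eK.symm (some (Sum.inl x))
    affine := fun x => by rw [hnz]; exact hZa x.1
    ρ := ρ, quo := hρ, loc := hρo, act := b', act_eq := hb'
    gen := fun x => ?_
    cover := fun p => ⟨fun hp => ?_, fun ⟨x, hx⟩ => ?_⟩ }⟩
  · revert b'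
    have key : ∀ (T : X.left.Opens) (hT : T = Z x.1) (bT : AlgGrp.Action G (Over.mk (T.ι ≫ X.hom))),
        bT.act ≫ (Over.homMk T.ι rfl : Over.mk (T.ι ≫ X.hom) ⟶ X) =
          (G ◁ (Over.homMk T.ι rfl : Over.mk (T.ι ≫ X.hom) ⟶ X)) ≫ a.act →
        T ≤ nzOpen B.atlas hN (hsK (eK (eK.symm (some (Sum.inl x))))).1 →
        ∀ r : Fin (Fintype.card K - 1 + 1) → Γ(X.left, T),
          (∀ l, IsQuo B (sK (eK l)) (sK (eK (eK.symm (some (Sum.inl x))))) T (r l)) →
          ∀ q, GLinSh.IsInvFn bT q → q ∈ Algebra.adjoin k (Set.range fun l => chartFn T (r l)) := by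
      intro T hT bT hbT hle r hr q hq
      subst hT
      haveI : Mono (Over.homMk (Z x.1).ι rfl : Over.mk ((Z x.1).ι ≫ X.hom) ⟶ X) := by
        haveI : Mono (Over.homMk (Z x.1).ι rfl : Over.mk ((Z x.1).ι ≫ X.hom) ⟶ X).left :=
          inferInstanceAs (Mono (Z x.1).ι)
        exact Over.mono_of_mono_left _
      have hact : bT.act = (b x).act := (cancel_mono _).mp (hbT.trans (hb x).symm)
      refine Algebra.adjoin_mono ?_ (hgen x q (by rw [GLinSh.IsInvFn, ← hact]; exact hq))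
      rintro _ ⟨i, rfl⟩
      refine ⟨eK.symm (some (Sum.inr ⟨x, i⟩)), congrArg (chartFn _) ?_⟩
      refine IsQuo.unique hN (hsK (eK (eK.symm (some (Sum.inl x))))).1 hle (hr _) ?_
      rw [hσ, Equiv.apply_symm_apply]
      show IsQuo B (s x i * g x ^ (L₀ - L x)) (g x ^ L₀) (Z x.1) (h x i)
      rw [show g x ^ L₀ = g x ^ L x * g x ^ (L₀ - L x) by rw [← pow_add, Nat.add_sub_cancel' (hLle x)],
        ← _root_.mul_one (h x i)]
      refine (hs x i).2.mul ?_
      show GLinSh.resTop B.π _ (g x ^ (L₀ - L x)) = _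
      rw [map_one, _root_.one_mul]
    intro b' hb'
    exact key _ (hnz x) (b' x) (hb' x) le_rfl (ρ x) (hρ x)
  · obtain ⟨y, hy, hp⟩ := Set.mem_iUnion₂.mp (ht (hU.ge hp))
    exact ⟨⟨y, hy⟩, (hnz ⟨y, hy⟩).symm ▸ hp⟩
  · rw [hnz] at hx
    exact ⟨n x.1, f x.1, hn x.1, hf x.1, (hZ x.1).le hx, Z x.1, hZ x.1, hZa x.1⟩

end Groth.Agent.SSQuot66
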