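import Groth.Agent.HMAmple.Ratio
import Groth.Agent.HMAmple.Weight
import Groth.Agent.AffAct66.Glue
import Groth.Agent.GITQuot.BaseChange

/-!
Quotients of invariant sections as functions on non-vanishing loci, over any field.
-/

set_option autoImplicit false
set_option linter.unusedSectionVars false
set_option linter.style.haveILetI false
set_option backward.isDefEq.respectTransparency false
set_option backward.isDefEq.respectTransparency.types false

universe u

open CategoryTheory CategoryTheory.Limits MonoidalCategory CartesianMonoidalCategory MonObj GrpObj AlgebraicGeometry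
open Opposite TopologicalSpace
open Groth.Agent.GrpSchLib.Kunneth (Fn ev pullFn)

namespace Groth.Agent.SSQuot66

open HMAmple HMSec

variable {k : Type u} [Field k]

/-- Functions on an open are determined by their values at points with values in local algebras. -/
theorem eq_of_lval {Z : Over (Spec (CommRingCat.of k))} {U : Z.left.Opens} {s t : Γ(Z.left, U)}
    (h : ∀ (R : Type u) [CommRing R] [IsLocalRing R] [Algebra k R] (p : VecGrp.pt k R ⟶ Z) (hp : ⊤ ≤ p.left ⁻¹ᵁ U),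
      lval p U hp s = lval p U hp t) : s = t := by
  refine Z.left.sheaf.eq_of_locally_eq' (fun T : {T : Z.left.affineOpens // T.1 ≤ U} => T.1.1) U
    (fun T => homOfLE T.2) (fun x hx => ?_) s t fun T => ?_
  · obtain ⟨T, hT, hxT, hTU⟩ := exists_isAffineOpen_mem_and_subset (x := x) (U := U) hx
    exact Opens.mem_iSup.mpr ⟨⟨⟨T, hT⟩, hTU⟩, hxT⟩
  obtain ⟨⟨W, hW⟩, hWU⟩ := T
  show Z.left.presheaf.map (homOfLE hWU).op s = Z.left.presheaf.map (homOfLE hWU).op t
  letI : Algebra k Γ(Z.left, W) := GrpSchLib.Kunneth.algOpen hW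
  let o : VecGrp.pt k Γ(Z.left, W) ⟶ Z := GrpSchLib.Kunneth.openPt hW
  have ho : ⊤ ≤ o.left ⁻¹ᵁ W := fun z _ => by
    show hW.fromSpec.base z ∈ W
    rw [← SetLike.mem_coe, ← hW.range_fromSpec]
    exact ⟨z, rfl⟩
  have hlo : lval o W ho = RingHom.id _ := by
    have h1 := left_eq_fromSpec o hW ho
    have h2 : Spec.map (CommRingCat.ofHom (lval o W ho)) =
        Spec.map (CommRingCat.ofHom (RingHom.id Γ(Z.left, W))) :=
      (cancel_mono hW.fromSpec).mp (h1.trans (by
        rw [CommRingCat.ofHom_id, Spec.map_id, Category.id_comp]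
        rfl))
    exact congrArg CommRingCat.Hom.hom (Spec.map_injective h2)
  refine sub_eq_zero.mp (eq_zero_of_localization _ fun q hq => ?_)
  haveI := hq.isPrime
  let R := Localization.AtPrime q
  let φ : Γ(Z.left, W) →ₐ[k] R := { algebraMap Γ(Z.left, W) R with commutes' := fun _ => rfl }
  have hpW : ⊤ ≤ (VecGrp.ptMap φ ≫ o).left ⁻¹ᵁ W := fun z _ => ho (Set.mem_univ _)
  have key : ∀ r : Γ(Z.left, U), algebraMap Γ(Z.left, W) R (Z.left.presheaf.map (homOfLE hWU).op r) =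
      lval (VecGrp.ptMap φ ≫ o) U (hpW.trans ((VecGrp.ptMap φ ≫ o).left.preimage_mono hWU)) r := fun r => by
    rw [← lval_res (VecGrp.ptMap φ ≫ o) hWU hpW r, lval_ptMap φ o W ho hpW, hlo]
    rfl
  rw [map_sub, key, key, h R _ _, sub_self]

/-- A point with values in a local ring meets the locus of a function exactly when the value is a unit. -/
theorem mem_basicOpen_iff_isUnit {Z : Over (Spec (CommRingCat.of k))} {R : Type u} [CommRing R] [IsLocalRing R]
    [Algebra k R] (p : VecGrp.pt k R ⟶ Z) {U : Z.left.Opens} (hp : ⊤ ≤ p.left ⁻¹ᵁ U) (s : Γ(Z.left, U)) :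
    p.left.base (IsLocalRing.closedPoint R) ∈ Z.left.basicOpen s ↔ IsUnit (lval p U hp s) := by
  constructor
  · intro hm
    have h2 : ⊤ ≤ p.left ⁻¹ᵁ Z.left.basicOpen s := top_le_of_closedPoint p hm
    rw [← lval_res p (Z.left.basicOpen_le s) h2]
    exact (RingedSpace.isUnit_res_basicOpen Z.left.toLocallyRingedSpace.toRingedSpace s).map (lval p _ h2)
  · intro hu
    have h1 := hu.map (Scheme.ΓSpecIso (CommRingCat.of R)).inv.hom
    rw [show (Scheme.ΓSpecIso (CommRingCat.of R)).inv.hom (lval p U hp s) = p.left.appLE U ⊤ hp s from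
      Iso.hom_inv_id_apply (Scheme.ΓSpecIso (CommRingCat.of R)) _] at h1
    have h2 := Scheme.basicOpen_of_isUnit _ h1
    rw [Scheme.Hom.appLE, CommRingCat.comp_apply, Scheme.basicOpen_res, ← Scheme.preimage_basicOpen] at h2
    exact (h2.ge trivial).2

variable {G X : Over (Spec (CommRingCat.of k))} [GrpObj G] {a : AlgGrp.Action G X} (B : GLinSh.LinBun G a)

/-- Over the locus of a weight function there are vectors with unit value. -/
theorem exists_unit_vec {n : ℕ} (hn : 1 ≤ n) {g : Fn B.V} (hg : GLinSh.HasWeight B.atlas.chart n g)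
    {R : Type u} [CommRing R] [IsLocalRing R] [Algebra k R] (z : VecGrp.pt k R ⟶ X)
    (hz : ⊤ ≤ z.left ⁻¹ᵁ nzOpen B.atlas hn hg) : ∃ v : VecGrp.pt k R ⟶ B.V, v ≫ B.π = z ∧ IsUnit (pullFn v g) := by
  obtain ⟨U, y, hy, hU⟩ := exists_chart B z
  obtain ⟨c, hc, hv⟩ := pullFn_weight B hg hy
  obtain ⟨v, rfl, h1⟩ := exists_point B z hy hU 1
  refine ⟨v, rfl, ?_⟩
  rw [hv R v hU, h1 hU, one_pow, _root_.mul_one, ← mem_basicOpen_iff_isUnit,
    ← HMAmple.mem_nonvanishing_iff B.atlas hn hy hc (hU (Set.mem_univ _))]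
  exact hz (Set.mem_univ _)

/-- `b` is the quotient of `f` by `g` on the open `T`. -/
def IsQuo (f g : Fn B.V) (T : X.left.Opens) (b : Γ(X.left, T)) : Prop :=
  GLinSh.resTop B.π T f = B.π.left.app T b * GLinSh.resTop B.π T g

variable {B}

theorem IsQuo.val {f g : Fn B.V} {T : X.left.Opens} {b : Γ(X.left, T)} (h : IsQuo B f g T b) {R : Type u} [CommRing R]
    [Algebra k R] (v : VecGrp.pt k R ⟶ B.V) (hv : ⊤ ≤ (v ≫ B.π).left ⁻¹ᵁ T) :
    pullFn v f = lval (v ≫ B.π) T hv b * pullFn v g := by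
  have hv' : ⊤ ≤ v.left ⁻¹ᵁ (B.π.left ⁻¹ᵁ T) := hv
  rw [← lval_resTop v hv' f, ← lval_resTop v hv' g, lval_comp v B.π T hv hv' b, ← map_mul]
  exact congrArg _ h

theorem IsQuo.res {f g : Fn B.V} {T T' : X.left.Opens} {b : Γ(X.left, T)} (h : IsQuo B f g T b) (hT : T' ≤ T) :
    IsQuo B f g T' (X.left.presheaf.map (homOfLE hT).op b) := by
  show GLinSh.resTop B.π T' f = _
  rw [← res_resTop hT f, ← res_resTop hT g, h, ← res_app hT b]
  exact map_mul _ _ _

variable {n : ℕ} (hn : 1 ≤ n) {g : Fn B.V} (hg : GLinSh.HasWeight B.atlas.chart n g)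

include hn hg in
theorem IsQuo.unique {f : Fn B.V} {T : X.left.Opens} (hT : T ≤ nzOpen B.atlas hn hg) {b b' : Γ(X.left, T)}
    (h : IsQuo B f g T b) (h' : IsQuo B f g T b') : b = b' := eq_of_lval fun R _ _ _ z hz => by
  obtain ⟨v, rfl, hu⟩ := exists_unit_vec B hn hg z (hz.trans (z.left.preimage_mono hT))
  exact hu.mul_right_cancel ((h.val v hz).symm.trans (h'.val v hz))

include hn hg in
theorem IsQuo.one {T : X.left.Opens} : IsQuo B g g T 1 := by
  show GLinSh.resTop B.π T g = _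
  rw [map_one, _root_.one_mul]

theorem IsQuo.mul {f₁ g₁ f₂ g₂ : Fn B.V} {T : X.left.Opens} {b₁ b₂ : Γ(X.left, T)} (h₁ : IsQuo B f₁ g₁ T b₁)
    (h₂ : IsQuo B f₂ g₂ T b₂) : IsQuo B (f₁ * f₂) (g₁ * g₂) T (b₁ * b₂) := by
  simp only [IsQuo, GLinSh.resTop, map_mul] at *
  rw [h₁, h₂]
  exact mul_mul_mul_comm _ _ _ _

include hn hg in
theorem exists_quo {f : Fn B.V} (hf : GLinSh.HasWeight B.atlas.chart n f) :
    ∃ b : Γ(X.left, nzOpen B.atlas hn hg), IsQuo B f g _ b ∧
      X.left.basicOpen b = nzOpen B.atlas hn hg ⊓ nzOpen B.atlas hn hf := by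
  obtain ⟨b, hb⟩ := exists_eq_mul B.atlas hn hf hg
  refine ⟨b, hb, Opens.ext (Set.ext fun x => ?_)⟩
  let T := nzOpen B.atlas hn hg
  have key : B.V.left.basicOpen (GLinSh.resTop B.π T f) =
      B.π.left ⁻¹ᵁ X.left.basicOpen b ⊓ B.V.left.basicOpen (GLinSh.resTop B.π T g) := by
    rw [show GLinSh.resTop B.π T f = B.π.left.app T b * GLinSh.resTop B.π T g from hb, Scheme.basicOpen_mul,
      Scheme.preimage_basicOpen]
  rw [Scheme.basicOpen_res, Scheme.basicOpen_res] at key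
  have key' := fun v => (SetLike.ext_iff.mp key v)
  constructor
  · intro hx
    have hxT : x ∈ T := X.left.basicOpen_le b hx
    refine ⟨hxT, ?_⟩
    obtain ⟨v, hv, rfl⟩ := id (hxT : x ∈ GLinSh.nonvanishing B.π g)
    exact ⟨v, ((key' v).mpr ⟨hx, hxT, hv⟩).2, rfl⟩
  · rintro ⟨hxT, v, hv, rfl⟩
    exact ((key' v).mp ⟨hxT, hv⟩).1

include hn hg in
/-- Quotients of invariant sections are invariant. -/
theorem IsQuo.invariant (hgi : GLinSh.IsInvFn B.lift g) {f : Fn B.V} (hfi : GLinSh.IsInvFn B.lift f)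
    {T : X.left.Opens} (hT : T ≤ nzOpen B.atlas hn hg) {b : Γ(X.left, T)} (hb : IsQuo B f g T b)
    (O : (G ⊗ X).left.Opens) (h₁ : O ≤ a.act.left ⁻¹ᵁ T) (h₂ : O ≤ (snd G X).left ⁻¹ᵁ T) :
    a.act.left.appLE T O h₁ b = (snd G X).left.appLE T O h₂ b := eq_of_lval fun R _ _ _ z hz => by
  rw [AffAct66.lval_appLE _ _ _ hz, AffAct66.lval_appLE _ _ _ hz]
  have hz₂ : ⊤ ≤ (z ≫ snd G X).left ⁻¹ᵁ T := hz.trans (z.left.preimage_mono h₂)
  obtain ⟨v, hv, hu⟩ := exists_unit_vec B hn hg (z ≫ snd G X)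
    (hz₂.trans ((z ≫ snd G X).left.preimage_mono hT))
  let v' := lift (z ≫ fst G X) v ≫ B.lift.act
  have e₁ : v' ≫ B.π = z ≫ a.act := by
    rw [act_π, hv, ← comp_lift, lift_fst_snd, Category.comp_id]
  have hinv : ∀ s : Fn B.V, GLinSh.IsInvFn B.lift s → pullFn v' s = pullFn v s := fun s hs => by
    rw [GrpSchLib.Kunneth.pullFn_apply, ← GrpSchLib.Kunneth.ev_ev, show ev B.lift.act s = ev (snd G B.V) s from hs,
      GrpSchLib.Kunneth.ev_ev, lift_snd, ← GrpSchLib.Kunneth.pullFn_apply]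
  have hx₁ : ⊤ ≤ (v' ≫ B.π).left ⁻¹ᵁ T := by rw [e₁]; exact hz.trans (z.left.preimage_mono h₁)
  have hx₂ : ⊤ ≤ (v ≫ B.π).left ⁻¹ᵁ T := by rw [hv]; exact hz₂
  have r₁ := hb.val v' hx₁
  rw [hinv f hfi, hinv g hgi, hb.val v hx₂] at r₁
  rw [lval_congr e₁.symm _ _ hx₁, lval_congr hv.symm _ _ hx₂]
  exact (hu.mul_right_cancel r₁).symm

include hn in
/-- An invariant function on the locus of an invariant section is the quotient of an invariant section by a power. -/
theorem exists_invSection_quo [LocallyOfFiniteType X.hom] [QuasiCompact X.hom] [IsAffineHom G.hom]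
    (hgi : B.IsInvSection n g) {Z : X.left.Opens} (hZ : (Z : Set X.left) = GLinSh.nonvanishing B.π g)
    (h : Γ(X.left, Z)) (hle : (snd G X).left ⁻¹ᵁ Z ≤ a.act.left ⁻¹ᵁ Z)
    (hinv : a.act.left.appLE Z ((snd G X).left ⁻¹ᵁ Z) hle h = (snd G X).left.app Z h) :
    ∃ (L : ℕ) (s : Fn B.V), 1 ≤ L ∧ B.IsInvSection (n * L) s ∧ IsQuo B s (g ^ L) Z h := by
  obtain ⟨L, s, hVZ, hL, hs, hres, -⟩ := AffAct66.exists_invSection_mul B hn hgi hZ h hle hinv
  have hpow := AffAct66.IsInvSection_pow B hgi L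
  have hnL : 1 ≤ n * L := Nat.mul_pos hn hL
  obtain ⟨b, hb, -⟩ := exists_quo (B := B) hnL hpow.1 hs.1
  have hZT : Z = nzOpen B.atlas hnL hpow.1 := Opens.ext (hZ.trans (AffAct66.nonvanishing_pow B hL g).symm)
  subst hZT
  refine ⟨L, s, hL, hs, ?_⟩
  suffices h = b by rw [this]; exact hb
  refine eq_of_lval fun R _ _ _ z hz => ?_
  obtain ⟨v, rfl, hu⟩ := exists_unit_vec B hnL hpow.1 z hz
  have hvf : ⊤ ≤ v.left ⁻¹ᵁ B.V.left.basicOpen g := by
    refine top_le_of_closedPoint v ((mem_basicOpen_iff_isUnit v (U := ⊤) le_top g).mpr ?_)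
    rw [lval_top]
    rw [map_pow] at hu
    exact (isUnit_pow_iff (by omega : L ≠ 0)).mp hu
  have e := congrArg (lval v _ hvf) hres
  rw [map_mul, map_pow, lval_resTop, lval_res v (B.V.left.basicOpen_le g) hvf, lval_top,
    AffAct66.lval_appLE B.π hVZ v hvf, hb.val v hz, ← map_pow, _root_.mul_comm _ (lval _ _ _ h)] at e
  exact (hu.mul_right_cancel e).symm

/-- The locus of an invariant section is invariant. -/
theorem preimage_nonvanishing {f : Fn B.V} (hf : GLinSh.IsInvFn B.lift f) {U : X.left.Opens}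
    (hU : (U : Set X.left) = GLinSh.nonvanishing B.π f) : a.act.left ⁻¹ᵁ U = (snd G X).left ⁻¹ᵁ U := by
  let Ψ : G ⊗ X ⟶ G ⊗ X := lift (fst G X)⁻¹ a.act
  have h₁ : Ψ ≫ snd G X = a.act := lift_snd _ _
  have h₂ : Ψ ≫ a.act = snd G X := by
    have e : lift (fst G X)⁻¹ (lift (fst G X) (snd G X) ≫ a.act) ≫ a.act = snd G X := by
      rw [GrpSchLib.act_mul, inv_mul_cancel, GrpSchLib.act_one]
    rwa [lift_fst_snd, Category.id_comp] at e
  have key : ∀ z, (snd G X).left.base z ∈ U → a.act.left.base z ∈ U := fun z hz => by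
    obtain ⟨v, hv, hvz⟩ := hU.le hz
    obtain ⟨w, hw, hw'⟩ := Scheme.exists_preimage_of_isPullback
      ((GITQuot.isPullback_tensorLeft (G := G) B.π).map (Over.forget _)) z v hvz.symm
    refine hU.ge ⟨B.lift.act.left.base w, ?_, ?_⟩
    · have h3 : B.lift.act.left ⁻¹ᵁ B.V.left.basicOpen f = (snd G B.V).left ⁻¹ᵁ B.V.left.basicOpen f :=
        AffAct66.preimage_basicOpen_eq B.lift hf
      show w ∈ B.lift.act.left ⁻¹ᵁ B.V.left.basicOpen f
      rw [h3]
      show (snd G B.V).left.base w ∈ B.V.left.basicOpen f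
      exact hw'.symm ▸ hv
    · show (B.lift.act ≫ B.π).left.base w = _
      rw [B.lift_π]
      exact congrArg a.act.left.base hw
  refine Opens.ext (Set.ext fun z => ⟨fun hz => ?_, key z⟩)
  have h3 := key (Ψ.left.base z) (by
    show (Ψ ≫ snd G X).left.base z ∈ U
    rw [h₁]
    exact hz)
  show (snd G X).left.base z ∈ U
  rw [← h₂]
  exact h3


end Groth.Agent.SSQuot66
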