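import Groth.Agent.ProjPt.Poly
import Groth.Agent.ProjPt.Sections
import Groth.Agent.GITQuot.BaseChange
import Groth.Agent.GrpSchLib.Kunneth
import Groth.Prelude.Def_GLinSh

/-!
Invariant functions on invariant opens, and maps into a chart of projective space.
-/

set_option autoImplicit false
set_option linter.unusedSectionVars false
set_option linter.style.haveILetI false
set_option backward.isDefEq.respectTransparency false
set_option backward.isDefEq.respectTransparency.types false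

universe u

open CategoryTheory CategoryTheory.Limits MonoidalCategory CartesianMonoidalCategory MonObj GrpObj AlgebraicGeometry
open TopologicalSpace
open HomogeneousLocalization (Away)
open Groth.Agent.GrpSchLib.Kunneth (Fn ev)

namespace Groth.Agent.SSQuot66

theorem bijective_appLE {A B : Scheme.{u}} (i : A ⟶ B) [IsOpenImmersion i] (P : B.Opens) (hP : P ≤ i.opensRange)
    (h : ⊤ ≤ i ⁻¹ᵁ P) : Function.Bijective (i.appLE P ⊤ h).hom := by
  haveI : IsIso (i.app P) := Scheme.Hom.isIso_app i P hP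
  have e : i ⁻¹ᵁ P = ⊤ := top_le_iff.mp h
  haveI : IsIso (homOfLE h : (⊤ : A.Opens) ⟶ i ⁻¹ᵁ P).op := by
    haveI : IsIso (homOfLE h : (⊤ : A.Opens) ⟶ i ⁻¹ᵁ P) := ⟨⟨homOfLE e.le, rfl, rfl⟩⟩
    infer_instance
  rw [Scheme.Hom.appLE]
  exact ConcreteCategory.bijective_of_isIso _

variable {k : Type u} [Field k]

section Invariant

variable {G X W : Over (Spec (CommRingCat.of k))} [GrpObj G] {a : AlgGrp.Action G X} {b : AlgGrp.Action G W}
  {j : W ⟶ X} (hb : b.act ≫ j = (G ◁ j) ≫ a.act) {Z : X.left.Opens} (hj : ⊤ ≤ j.left ⁻¹ᵁ Z)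

include hb hj in
/-- Pulling back along an equivariant map. -/
theorem whisker_appLE {O : (G ⊗ X).left.Opens} (hO : ⊤ ≤ (G ◁ j).left ⁻¹ᵁ O) (h₁ : O ≤ a.act.left ⁻¹ᵁ Z)
    (h₂ : O ≤ (snd G X).left ⁻¹ᵁ Z) (h : Γ(X.left, Z)) :
    (G ◁ j).left.appLE O ⊤ hO (a.act.left.appLE Z O h₁ h) = ev b.act (j.left.appLE Z ⊤ hj h) ∧
      (G ◁ j).left.appLE O ⊤ hO ((snd G X).left.appLE Z O h₂ h) = ev (snd G W) (j.left.appLE Z ⊤ hj h) := by
  have key : ∀ (m : G ⊗ X ⟶ X) (m' : G ⊗ W ⟶ W) (hm : O ≤ m.left ⁻¹ᵁ Z), (G ◁ j) ≫ m = m' ≫ j →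
      (G ◁ j).left.appLE O ⊤ hO (m.left.appLE Z O hm h) = ev m' (j.left.appLE Z ⊤ hj h) := by
    intro m m' hm e
    show _ = m'.left.appTop (j.left.appLE Z ⊤ hj h)
    rw [← CommRingCat.comp_apply, ← CommRingCat.comp_apply, Scheme.Hom.appTop, Scheme.Hom.app_eq_appLE,
      Scheme.Hom.appLE_comp_appLE, Scheme.Hom.appLE_comp_appLE]
    have e' : (G ◁ j).left ≫ m.left = m'.left ≫ j.left := congrArg (fun z => z.left) e
    simp only [e']
    rfl
  exact ⟨key a.act b.act h₁ hb.symm, key (snd G X) (snd G W) h₂ (whiskerLeft_snd _ _)⟩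

variable [IsOpenImmersion j.left]

include hb hj in
theorem invariant_iff (hZ : (Z : Set X.left) ⊆ Set.range j.left.base) (hle : (snd G X).left ⁻¹ᵁ Z ≤ a.act.left ⁻¹ᵁ Z)
    (h : Γ(X.left, Z)) :
    a.act.left.appLE Z ((snd G X).left ⁻¹ᵁ Z) hle h = (snd G X).left.app Z h ↔
      GLinSh.IsInvFn b (j.left.appLE Z ⊤ hj h) := by
  have hpb := (GITQuot.isPullback_tensorLeft (G := G) j).map (Over.forget _)
  haveI : IsOpenImmersion (G ◁ j).left := MorphismProperty.of_isPullback hpb.flip (by assumption)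
  have hr : (snd G X).left ⁻¹ᵁ Z ≤ (G ◁ j).left.opensRange := fun z hz => by
    obtain ⟨t, ht⟩ := hZ hz
    obtain ⟨w, hw, -⟩ := Scheme.exists_preimage_of_isPullback hpb z t ht.symm
    exact ⟨w, hw⟩
  have htop : ⊤ ≤ (G ◁ j).left ⁻¹ᵁ ((snd G X).left ⁻¹ᵁ Z) := fun z _ => by
    show ((G ◁ j) ≫ snd G X).left.base z ∈ Z
    rw [whiskerLeft_snd]
    exact hj (Set.mem_univ _)
  obtain ⟨e₁, e₂⟩ := whisker_appLE hb hj htop hle le_rfl h
  rw [show (snd G X).left.app Z h = (snd G X).left.appLE Z _ le_rfl h from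
    ConcreteCategory.congr_hom (Scheme.Hom.app_eq_appLE _) h, ← (bijective_appLE (G ◁ j).left _ hr htop).1.eq_iff,
    e₁, e₂]
  rfl

end Invariant

variable {m : ℕ}

theorem awayι_toSpec (i : Fin (m + 1)) :
    Proj.awayι (CohB1.polyGrading m k) (MvPolynomial.X i) (ProjPt.X_mem i) one_pos ≫ CohB1.ProjSpace.toSpec m k =
      Spec.map (CommRingCat.ofHom (ProjPt.cst (R := k) i)) := by
  rw [CohB1.ProjSpace.toSpec, Proj.awayι_toSpecZero_assoc, ← Spec.map_comp]
  rfl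

/-- Maps into a chart with the same coordinates are equal. -/
theorem ext_to_chart {W : Scheme.{u}} {g g' : W ⟶ CohB1.ProjSpace m k}
    (hq : g ≫ CohB1.ProjSpace.toSpec m k = g' ≫ CohB1.ProjSpace.toSpec m k) (i : Fin (m + 1))
    (h : ⊤ ≤ g ⁻¹ᵁ Proj.basicOpen (CohB1.polyGrading m k) (MvPolynomial.X i))
    (h' : ⊤ ≤ g' ⁻¹ᵁ Proj.basicOpen (CohB1.polyGrading m k) (MvPolynomial.X i))
    (hl : ∀ l, g.appLE (Proj.basicOpen (CohB1.polyGrading m k) (MvPolynomial.X i)) ⊤ h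
        ((Proj.awayToSection (CohB1.polyGrading m k) (MvPolynomial.X i)).hom (ProjPt.crd i l)) =
      g'.appLE (Proj.basicOpen (CohB1.polyGrading m k) (MvPolynomial.X i)) ⊤ h'
        ((Proj.awayToSection (CohB1.polyGrading m k) (MvPolynomial.X i)).hom (ProjPt.crd i l))) : g = g' := by
  let 𝒜 := CohB1.polyGrading m k
  let aι := Proj.awayι 𝒜 (MvPolynomial.X i) (ProjPt.X_mem i) one_pos
  have e1 : (⊤ : (Spec (CommRingCat.of (Away 𝒜 (MvPolynomial.X i : MvPolynomial (Fin (m + 1)) k)))).Opens) ≤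
      aι ⁻¹ᵁ Proj.basicOpen 𝒜 (MvPolynomial.X i) := by
    rw [← Proj.opensRange_awayι 𝒜 _ (ProjPt.X_mem i) one_pos, Scheme.Hom.preimage_opensRange]
  have lift : ∀ (f : W ⟶ CohB1.ProjSpace m k) (hf : ⊤ ≤ f ⁻¹ᵁ Proj.basicOpen 𝒜 (MvPolynomial.X i)),
      ∃ u : Away 𝒜 (MvPolynomial.X i : MvPolynomial (Fin (m + 1)) k) →+* Γ(W, ⊤),
        f = W.toSpecΓ ≫ Spec.map (CommRingCat.ofHom u) ≫ aι ∧
        ∀ x, u x = f.appLE (Proj.basicOpen 𝒜 (MvPolynomial.X i)) ⊤ hf ((Proj.awayToSection 𝒜 _).hom x) := by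
    intro f hf
    let l := IsOpenImmersion.lift aι f (by
      rintro _ ⟨z, rfl⟩
      show f z ∈ aι.opensRange
      rw [Proj.opensRange_awayι]
      exact hf (Set.mem_univ z))
    have hl' : l ≫ aι = f := IsOpenImmersion.lift_fac _ _ _
    let u := ((Scheme.ΓSpecIso (CommRingCat.of (Away 𝒜 (MvPolynomial.X i : MvPolynomial (Fin (m + 1)) k)))).inv ≫
      l.appTop).hom
    refine ⟨u, ?_, fun x => ?_⟩
    · rw [← hl', ← Category.assoc (f := W.toSpecΓ)]
      exact congrArg (fun t => t ≫ aι) (ProjPt.eq_toSpecΓ l)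
    · have key : Proj.awayToSection 𝒜 _ ≫ f.appLE (Proj.basicOpen 𝒜 (MvPolynomial.X i)) ⊤ hf =
          (Scheme.ΓSpecIso _).inv ≫ l.appTop := by
        simp only [← hl']
        rw [← Scheme.Hom.appLE_comp_appLE l aι _ ⊤ ⊤ e1 le_top, ← Category.assoc,
          ProjPt.awayι_appLE 𝒜 (ProjPt.X_mem i) one_pos e1, Scheme.Hom.appTop, Scheme.Hom.app_eq_appLE]
        rfl
      exact (ConcreteCategory.congr_hom key x).symm
  obtain ⟨u, hu, hux⟩ := lift g h
  obtain ⟨u', hu', hux'⟩ := lift g' h'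
  suffices u = u' by rw [hu, hu', this]
  refine ProjPt.away_ext i u u' ?_ fun l => by rw [hux, hux', hl]
  rw [hu, hu', Category.assoc, Category.assoc, Category.assoc, Category.assoc] at hq
  simp only [aι, 𝒜, awayι_toSpec, ← Spec.map_comp] at hq
  have := congrArg Scheme.Hom.appTop hq
  rw [Scheme.Hom.comp_appTop, Scheme.Hom.comp_appTop, Scheme.toSpecΓ_appTop, Scheme.ΓSpecIso_naturality,
    Scheme.ΓSpecIso_naturality] at this
  exact congrArg CommRingCat.Hom.hom ((cancel_epi (Scheme.ΓSpecIso (CommRingCat.of k)).hom).mp this)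

end Groth.Agent.SSQuot66
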