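import Groth.Agent.AffQuot66.Main
import Groth.Agent.AffAct66.Restrict
import Groth.Agent.SSQuot66.Ratio
import Groth.Agent.SSQuot66.Transfer

/-!
Invariant sections of one degree giving coordinates on affine loci covering the semi-stable points.
-/

set_option autoImplicit false
set_option linter.unusedSectionVars false
set_option linter.style.haveILetI false
set_option backward.isDefEq.respectTransparency false
set_option backward.isDefEq.respectTransparency.types false

universe u

open CategoryTheory CategoryTheory.Limits MonoidalCategory CartesianMonoidalCategory MonObj GrpObj AlgebraicGeometry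
open TopologicalSpace
open Groth.Agent.GrpSchLib.Kunneth (Fn ev)
open Groth.Agent.GrpSchLib.AffineHopf (sp)

namespace Groth.Agent.SSQuot66

open HMAmple

variable {k : Type u} [Field k] {G X : Over (Spec (CommRingCat.of k))} [GrpObj G] {a : AlgGrp.Action G X}
  {B : GLinSh.LinBun G a}

theorem IsQuo.trans {f g g' : Fn B.V} {T : X.left.Opens} {b b' : Γ(X.left, T)} (h : IsQuo B g' g T b)
    (h' : IsQuo B f g' T b') : IsQuo B f g T (b' * b) := by
  simp only [IsQuo, map_mul] at *
  rw [h', h, _root_.mul_assoc]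

/-- A function on an open as a function on the open subscheme. -/
noncomputable def chartFn (Z : X.left.Opens) (x : Γ(X.left, Z)) : Fn (Over.mk (Z.ι ≫ X.hom)) :=
  Z.ι.appLE Z ⊤ (fun z _ => z.2) x

variable {A : Type u} [CommRing A] [HopfAlgebra k A]
  (e : Grp.mk (sp k A) ≅ Grp.mk G) {α : A →ₗ[k] k} (hα : ComodLib.IsIntegral k α) (h1 : α 1 = 1)
  [LocallyOfFiniteType X.hom] [QuasiCompact X.hom]

include e hα h1 in
/-- Generators of the invariant functions on the affine locus of an invariant section, as quotients of sections. -/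
theorem exists_chart_sections [IsAffineHom G.hom] {n : ℕ} (hn : 1 ≤ n) {g : Fn B.V} (hg : B.IsInvSection n g)
    {Z : X.left.Opens} (hZ : (Z : Set X.left) = GLinSh.nonvanishing B.π g) (hZa : IsAffineOpen Z) :
    ∃ (b : AlgGrp.Action G (Over.mk (Z.ι ≫ X.hom))) (L : ℕ) (I : Type u) (_ : Finite I) (s : I → Fn B.V)
      (h : I → Γ(X.left, Z)),
      b.act ≫ (Over.homMk Z.ι rfl : Over.mk (Z.ι ≫ X.hom) ⟶ X) =
        (G ◁ (Over.homMk Z.ι rfl : Over.mk (Z.ι ≫ X.hom) ⟶ X)) ≫ a.act ∧
      (∀ i, B.IsInvSection (n * L) (s i) ∧ IsQuo B (s i) (g ^ L) Z (h i)) ∧ 1 ≤ L ∧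
      ∀ f : Fn (Over.mk (Z.ι ≫ X.hom)), GLinSh.IsInvFn b f →
        f ∈ Algebra.adjoin k (Set.range fun i => chartFn Z (h i)) := by
  have hinvZ := preimage_nonvanishing hg.2 hZ
  obtain ⟨b, hb⟩ := AffAct66.exists_restrict a Z hinvZ
  let ZO : Over (Spec (CommRingCat.of k)) := Over.mk (Z.ι ≫ X.hom)
  let j : ZO ⟶ X := Over.homMk Z.ι rfl
  haveI : IsAffine ZO.left := hZa
  haveI : IsOpenImmersion j.left := inferInstanceAs (IsOpenImmersion Z.ι)
  haveI : LocallyOfFiniteType ZO.hom := inferInstanceAs (LocallyOfFiniteType (Z.ι ≫ X.hom))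
  haveI : Algebra.FiniteType k (Fn ZO) := by
    have hX : LocallyOfFiniteType ZO.hom := inferInstance
    have h := (HasRingHomProperty.iff_of_isAffine (P := @LocallyOfFiniteType)).mp hX
    exact h.comp (RingHom.FiniteType.of_surjective _
      (Scheme.ΓSpecIso (CommRingCat.of k)).commRingCatIsoToRingEquiv.symm.surjective)
  letI := AffQuot66.comod e b
  haveI := AffQuot66.isCoactAlg e b
  obtain ⟨S, hS⟩ := ComodLib.exists_finset_invariants_adjoin (A := A) (C := Fn ZO) hα h1
  have htop : ⊤ ≤ j.left ⁻¹ᵁ Z := fun z _ => z.2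
  have hle : (snd G X).left ⁻¹ᵁ Z ≤ a.act.left ⁻¹ᵁ Z := hinvZ.ge
  have hbij := bijective_appLE j.left Z (by
    show Z ≤ Z.ι.opensRange
    rw [Scheme.Opens.opensRange_ι]) htop
  have hmk : ∀ f : {f : Fn ZO // f ∈ S}, ∃ (L : ℕ) (s : Fn B.V) (h : Γ(X.left, Z)), 1 ≤ L ∧
      B.IsInvSection (n * L) s ∧ IsQuo B s (g ^ L) Z h ∧ j.left.appLE Z ⊤ htop h = f.1 := by
    intro f
    obtain ⟨h, hh⟩ := hbij.2 f.1
    have hf : GLinSh.IsInvFn b f.1 :=
      (AffQuot66.mem_invSubalg e b).mp (hS.ge (Algebra.subset_adjoin f.2))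
    obtain ⟨L, s, hL, hs, hq⟩ := exists_invSection_quo hn hg hZ h hle
      ((invariant_iff (b := b) hb htop (by
        show (Z : Set X.left) ⊆ Set.range Z.ι.base
        rw [Scheme.Opens.range_ι]) hle h).mpr (hh ▸ hf))
    exact ⟨L, s, h, hL, hs, hq, hh⟩
  choose L s h hL hs hq hh using hmk
  let L0 := 1 + Finset.univ.sum L
  have hle' : ∀ f, L f ≤ L0 := fun f => (Finset.single_le_sum (fun _ _ => Nat.zero_le _) (Finset.mem_univ f)).trans
    (Nat.le_add_left _ _)
  refine ⟨b, L0, {f : Fn ZO // f ∈ S}, inferInstance, fun f => s f * g ^ (L0 - L f), h, hb, fun f => ⟨?_, ?_⟩,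
    Nat.le_add_right _ _, fun f hf => ?_⟩
  · refine ⟨hasWeight_of_isHomL B ?_, ?_⟩
    · rw [show n * L0 = n * L f + n * (L0 - L f) by rw [← Nat.mul_add, Nat.add_sub_cancel' (hle' f)]]
      intro R _ _ _ t v v' hr
      rw [map_mul, map_mul, isHomL_of_hasWeight B (hs f).1 R t v v' hr, map_pow, map_pow,
        isHomL_of_hasWeight B hg.1 R t v v' hr, pow_add, mul_pow, ← pow_mul]
      ring
    · show ev B.lift.act _ = ev (snd G B.V) _
      rw [map_mul, map_mul, map_pow, map_pow, show ev B.lift.act (s f) = ev (snd G B.V) (s f) from (hs f).2,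
        show ev B.lift.act g = ev (snd G B.V) g from hg.2]
  · rw [show g ^ L0 = g ^ L f * g ^ (L0 - L f) by rw [← pow_add, Nat.add_sub_cancel' (hle' f)],
      ← _root_.mul_one (h f)]
    refine (hq f).mul ?_
    show GLinSh.resTop B.π Z (g ^ (L0 - L f)) = _
    rw [map_one, _root_.one_mul]
  · have h2 := hS.le ((AffQuot66.mem_invSubalg e b).mpr hf)
    have hsets : (↑S : Set (Fn ZO)) = Set.range fun i => chartFn Z (h i) := by
      refine Set.ext fun f => ⟨fun hf => ⟨⟨f, hf⟩, hh ⟨f, hf⟩⟩, ?_⟩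
      rintro ⟨i, rfl⟩
      show chartFn Z (h i) ∈ _
      rw [show chartFn Z (h i) = i.1 from hh i]
      exact i.2
    rwa [hsets] at h2

end Groth.Agent.SSQuot66
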